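import Cfsg.Agent.Lib.Helper3.O73.L1D
import Cfsg.Agent.Lib.Helper3.O73.Net

set_option autoImplicit false
set_option maxRecDepth 100000

namespace Cfsg.Agent.Lib.Helper3.O73.L1

open Cfsg.Agent.Lib.Helper11 Cfsg.Agent.Lib.Helper3

set_option maxHeartbeats 0

noncomputable def fc (i : ℕ) : ℕ := (fc0_0 i)
noncomputable def sc (i : ℕ) : ℕ := (sc0_0 i)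
noncomputable def nc (i : ℕ) : ℕ := (nc0_0 i)
noncomputable def cc (i : ℕ) : ℕ := (cc0_0 i)

def isH (l : ℕ) : Bool := decide (l ∈ [5, 7])
def gens : List ℕ := [1, 2]
def hl : List ℕ := [5, 7]
def dl : List (List ℕ × ℕ) := [([1], 3), ([2], 4), ([1, 4, 1, 2, 3], 6), ([6], 5), ([1, 2, 2, 1, 4, 3, 3], 8), ([8], 7), ([6, 8, 5, 8, 5], 10), ([10], 9), ([6, 7, 7, 5, 7], 12), ([12], 11), ([11, 9, 9, 11, 9, 12], 14), ([14], 13), ([12, 9, 11, 11, 9, 9, 9], 16), ([16], 15), ([13], 18), ([18], 17), ([16, 13, 15, 15, 15], 20), ([20], 19), ([19, 17, 19], 21)]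
def BR : List (List ℕ) := [[], [1, 4, 1, 2, 3, 6], [1, 2, 2, 1, 4, 3, 3, 8], [6, 8, 5, 8, 5, 10], [6, 7, 7, 5, 7, 12], [11, 9, 9, 11, 9, 12, 14], [12, 9, 11, 11, 9, 9, 9, 16], [13, 18], [16, 13, 15, 15, 15, 20], [19, 17, 19, 21], [1, 1, 1, 1, 1], [3, 3, 3, 3, 3], [2, 2, 2, 2, 2, 2, 2], [4, 4, 4, 4, 4, 4, 4], [1, 2, 1, 2, 1, 2, 1, 2, 1, 2, 1, 2, 1, 2, 1, 2, 1, 2, 1, 2, 1, 2, 1, 2, 1, 2], [1, 4, 1, 4, 1, 4, 1, 4, 1, 4, 1, 4, 1, 4, 1, 4, 1, 4, 1, 4, 1, 4, 1, 4], [3, 2, 3, 2, 3, 2, 3, 2, 3, 2, 3, 2, 3, 2, 3, 2, 3, 2, 3, 2, 3, 2, 3, 2], [3, 4, 3, 4, 3, 4, 3, 4, 3, 4, 3, 4, 3, 4, 3, 4, 3, 4, 3, 4, 3, 4, 3, 4, 3, 4], [1, 1, 4, 1, 1, 4, 1, 1, 4, 1, 1, 4, 1, 1, 4, 1, 1, 4, 1, 1, 4, 1, 1, 4, 1,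 1, 4, 1, 1, 4, 1, 1, 4, 1, 1, 4], [1, 2, 2, 1, 2, 2, 1, 2, 2, 1, 2, 2, 1, 2, 2, 1, 2, 2, 1, 2, 2, 1, 2, 2, 1, 2, 2, 1, 2, 2, 1, 2, 2, 1, 2, 2], [3, 3, 2, 3, 3, 2, 3, 3, 2, 3, 3, 2, 3, 3, 2, 3, 3, 2, 3, 3, 2, 3, 3, 2, 3, 3, 2, 3, 3, 2, 3, 3, 2, 3, 3, 2], [3, 4, 4, 3, 4, 4, 3, 4, 4, 3, 4, 4, 3, 4, 4, 3, 4, 4, 3, 4, 4, 3, 4, 4, 3, 4, 4, 3, 4, 4, 3, 4, 4, 3, 4, 4], [1, 1, 4, 4, 1, 1, 4, 4, 1, 1, 4, 4, 1, 1, 4, 4, 1, 1, 4, 4, 1, 1, 4, 4, 1, 1, 4, 4, 1, 1, 4, 4], [1, 2, 1, 4, 1, 2, 1, 4, 1, 2, 1, 4, 1, 2, 1, 4, 1, 2, 1, 4, 1, 2, 1, 4], [1, 2, 3, 2, 1, 2, 3, 2, 1, 2, 3, 2, 1, 2, 3, 2, 1, 2, 3, 2, 1, 2, 3, 2, 1, 2, 3, 2, 1, 2, 3, 2], [1, 2, 3, 4, 1, 2, 3, 4, 1, 2, 3, 4, 1, 2, 3, 4, 1, 2, 3, 4],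 [1, 4, 3, 2, 1, 4, 3, 2, 1, 4, 3, 2, 1, 4, 3, 2, 1, 4, 3, 2], [1, 4, 3, 4, 1, 4, 3, 4, 1, 4, 3, 4, 1, 4, 3, 4, 1, 4, 3, 4, 1, 4, 3, 4, 1, 4, 3, 4, 1, 4, 3, 4], [3, 3, 2, 2, 3, 3, 2, 2, 3, 3, 2, 2, 3, 3, 2, 2, 3, 3, 2, 2, 3, 3, 2, 2, 3, 3, 2, 2, 3, 3, 2, 2], [3, 2, 3, 4, 3, 2, 3, 4, 3, 2, 3, 4, 3, 2, 3, 4, 3, 2, 3, 4, 3, 2, 3, 4], [3, 2, 1, 4, 1, 20, 17, 15, 15, 9, 9, 11, 10, 10, 11, 7, 6, 6, 7], [3, 3, 2, 3, 4, 18, 15, 14, 16, 11, 11, 5, 7, 6, 6, 7], [2, 3, 2, 2, 1, 1, 20, 17, 15, 14, 15, 9, 9, 9, 11, 9, 9, 7, 5, 8, 6, 6], [2, 2, 1, 2, 1, 1, 20, 17, 12, 9, 9, 6, 6, 8, 6, 7, 7], [1, 2, 1, 2, 1, 4, 21, 19, 15, 14, 15, 11, 10, 10, 10, 7, 5, 7], [4, 3, 3, 2, 2, 2, 21, 20, 17, 15, 13, 13, 16,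 16, 10, 10, 12, 5, 5, 8, 6, 7, 5, 8], [3, 4, 1, 2, 1, 2, 2, 17, 15, 14, 15, 12, 9, 9, 9, 5, 8, 5, 8, 5, 8], [4, 4, 1, 1, 2, 3, 2, 19, 16, 14, 15, 9, 11, 10, 10, 8, 6], [4, 1, 2, 1, 4, 4, 4, 21, 19, 19, 16, 14, 15, 9, 11, 9, 9, 8, 6], [3, 4, 4, 1, 2, 1, 2, 1, 17, 15, 13, 16, 9, 11, 9, 9, 9, 7, 6, 7, 7, 6], [3, 2, 2, 1, 1, 4, 3, 4, 21, 18, 19, 15, 13, 15, 11, 10, 5, 7, 6, 6, 8, 5, 8], [4, 1, 2, 2, 3, 2, 2, 3, 21, 15, 13, 13, 16, 16, 10, 12, 10, 6, 6, 8, 6, 7], [4, 3, 2, 1, 2, 1, 1, 4, 21, 18, 19, 16, 14, 16, 13, 12, 9, 9, 9, 11, 5, 8, 5], [4, 4, 1, 2, 2, 3, 2, 3, 3, 21, 17, 20, 17, 16, 14, 10, 12, 9, 5, 5, 8, 6, 7, 5], [1, 2, 2, 2, 1, 1, 2, 1, 2, 21, 17, 20, 17, 15, 15, 14, 9, 11, 10, 10,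 10, 10, 6, 6, 8, 6, 7], [4, 3, 2, 3, 2, 1, 2, 1, 2, 19, 19, 16, 16, 13, 9, 11, 6, 7, 5, 5, 7, 6], [1, 1, 4, 1, 1, 4, 4, 1, 2, 17, 20, 17, 15, 15, 14, 10, 10, 12, 9, 8, 6, 6], [1, 1, 4, 1, 2, 1, 4, 1, 2, 21, 17, 20, 17], [2, 3, 3, 2, 2, 2, 1, 4, 3, 21, 17, 20, 15, 13, 16, 9, 11, 10, 12, 5, 5, 7, 6, 6], [1, 4, 4, 4, 1, 2, 2, 2, 3, 17, 17, 15, 15, 14, 11, 9, 7, 7, 6], [1, 2, 3, 4, 1, 2, 2, 1, 2, 21, 17, 20, 17, 15, 14, 16, 9, 9, 11, 11, 7, 5, 8, 6, 7, 7], [1, 1, 4, 4, 1, 2, 3, 4, 3, 20, 17, 16, 13, 11, 10, 7, 6, 7, 5, 7, 7, 6], [2, 2, 2, 1, 1, 4, 1, 2, 1, 17, 20, 9, 9, 11, 9, 8, 5], [4, 3, 4, 1, 1, 4, 4, 3, 3, 21, 17, 20, 17, 15, 15, 13, 9, 9, 11, 11, 7, 6, 7, 7, 6], [4, 3, 4, 1, 2, 1, 2,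 2, 3, 21, 20, 15, 13, 16, 16, 9, 11, 10, 12, 9, 7, 5, 8, 6, 8], [1, 2, 2, 3, 2, 1, 2, 3, 3, 18, 19, 15, 13, 15, 14, 9, 12, 9, 11, 10, 6, 8, 8, 5], [1, 1, 4, 4, 3, 2, 1, 4, 4, 3, 15, 13, 13, 9, 12, 9, 11, 5, 7, 6, 6, 7, 5], [2, 2, 3, 4, 1, 2, 2, 3, 3, 2, 15, 13, 16, 16, 9, 9, 11, 10, 10, 5, 5, 8, 6, 8, 5, 8], [2, 3, 3, 4, 1, 4, 3, 2, 2, 3, 21, 20, 15, 15, 14, 16, 9, 12, 9, 11, 10, 6, 6, 7], [2, 1, 1, 4, 1, 1, 2, 2, 3, 3, 21, 19, 18, 15, 13, 13, 15, 9, 9, 11, 9, 5, 5, 7], [4, 1, 4, 1, 2, 1, 4, 1, 2, 2, 19, 16, 16, 13, 10, 11, 9, 11], [1, 1, 2, 2, 2, 1, 4, 3, 2, 2, 21, 18, 19, 15, 14, 11, 11, 10, 8, 5, 7, 6, 8, 5], [2, 3, 3, 2, 1, 2, 2, 2, 1, 2, 19, 19, 16, 16, 5, 8, 5, 8], [1, 2, 3, 3, 4,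 1, 2, 1, 4, 3, 18, 15, 13, 13, 16, 16, 9, 11, 6, 7], [4, 4, 1, 4, 1, 4, 3, 4, 3, 3, 21, 16, 11, 10, 11, 7, 6, 7, 5, 7, 7], [3, 3, 4, 1, 4, 1, 4, 4, 4, 1, 20, 16, 14, 16, 10, 10, 10, 10, 7, 6, 8, 5], [1, 2, 1, 1, 2, 1, 2, 3, 2, 2, 17, 15, 13, 13, 16, 10, 10, 10, 10, 5, 5, 8, 6], [3, 4, 4, 4, 3, 2, 1, 4, 3, 3, 4, 17, 17, 15, 13, 16, 16, 12, 9, 9, 9, 11, 5, 5, 8, 6, 7, 5], [3, 4, 4, 4, 1, 1, 2, 3, 4, 4, 1, 21, 17, 17, 15, 13, 10, 10, 10, 5, 5, 8], [4, 1, 4, 4, 1, 2, 1, 4, 3, 3, 2, 21, 17, 20, 16, 14, 16, 16, 10, 11, 11, 7, 5, 8, 6, 7], [2, 2, 3, 4, 3, 2, 3, 2, 2, 2, 1, 21, 17, 20, 17, 15, 13, 13, 16, 16, 9, 12, 9, 9, 9, 7, 5, 8, 6], [3, 2, 2, 3, 4, 1, 1, 2, 3, 2, 1, 15, 13, 13, 16, 16, 9,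 9, 11, 7, 5, 5, 8, 8], [4, 4, 3, 2, 1, 2, 2, 3, 4, 3, 4, 17, 20, 17, 15, 13, 16, 9, 11, 9, 9, 6, 8], [3, 4, 1, 4, 1, 2, 1, 2, 3, 2, 1, 19, 15, 15, 14, 9, 12, 10, 8, 8, 6, 8, 5, 8], [2, 3, 3, 2, 3, 2, 2, 3, 3, 2, 1, 21, 17, 20, 16, 14, 15, 10, 10, 11, 5, 7, 6, 6, 7, 6], [4, 1, 4, 1, 2, 2, 2, 3, 2, 1, 1, 18, 19, 15, 9, 9, 9, 12, 5, 8, 5, 8, 5], [3, 2, 2, 2, 1, 2, 2, 1, 4, 4, 1, 18, 19, 16, 14, 15, 9, 11, 10, 12, 5, 8, 5, 7], [3, 2, 2, 1, 2, 2, 1, 2, 2, 3, 2, 21, 17, 15, 13, 15, 9, 11, 10, 10, 10, 6, 8, 8, 6], [4, 3, 4, 4, 1, 2, 1, 1, 2, 3, 3, 20, 17, 16, 13, 9, 11, 9, 9, 6, 6, 7, 5], [3, 4, 1, 4, 4, 1, 2, 1, 1, 2, 1, 17, 20, 15, 9, 9, 12, 5, 7, 5, 8, 6, 7], [2, 2, 3, 4, 4, 1, 2, 3, 3, 2,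 1, 21, 19, 16, 14, 9, 9, 11, 9, 7], [4, 1, 4, 1, 4, 1, 1, 4, 3, 3, 4, 19, 18, 15, 13, 15, 14, 9, 9, 11, 10, 10, 11, 5, 8, 8, 5, 7], [2, 2, 3, 2, 1, 2, 1, 1, 2, 2, 1, 17, 15, 14, 10, 12, 10, 11, 9, 5, 7, 6, 6, 7, 6, 8], [1, 2, 1, 1, 2, 2, 3, 4, 3, 3, 2, 21, 18, 15, 14, 16, 13, 11, 10, 10, 5, 8, 5, 5], [4, 1, 1, 2, 1, 1, 4, 4, 3, 4, 3, 3, 19, 18, 15, 15, 14, 16, 10, 12, 9, 5, 8, 5, 7, 5, 7], [3, 4, 1, 1, 2, 1, 1, 4, 4, 4, 1, 2, 19, 19, 15, 14, 15, 10, 11, 11, 8, 6], [2, 3, 3, 2, 3, 4, 1, 1, 2, 1, 4, 4, 21, 20, 16, 14, 15, 11, 10, 10, 5, 5, 8, 6, 6, 7], [3, 4, 3, 2, 2, 2, 1, 4, 4, 3, 3, 4, 21, 20, 17, 15, 9, 9, 9, 11, 9, 9, 5, 8, 5, 8, 8, 6], [4, 1, 1, 4, 3, 2, 1, 4, 1, 4, 3, 2, 17, 20, 16,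 14, 16, 13, 11, 11, 10, 10, 8, 8, 5], [3, 4, 4, 3, 3, 2, 2, 1, 2, 3, 3, 2, 21, 19, 19, 16, 16, 13, 9, 11, 9, 5, 7, 5, 8, 6, 7], [3, 4, 1, 1, 2, 2, 1, 2, 2, 1, 2, 1, 21, 17, 20, 16, 14, 15, 9, 11, 10, 12, 6, 8, 6, 7, 7, 7], [2, 3, 3, 2, 1, 1, 2, 2, 2, 1, 4, 4, 20, 15, 13, 9, 11, 10, 10, 5, 5, 8, 6, 7, 5, 8], [4, 1, 1, 2, 2, 2, 1, 1, 4, 1, 1, 4, 21, 19, 18, 15, 15, 14, 11, 7, 5, 8, 6, 8, 6], [3, 4, 3, 3, 4, 1, 2, 1, 2, 1, 4, 4, 18, 15, 13, 13, 16, 9, 12, 9, 11, 10, 5, 7, 6, 6, 7, 6, 7], [2, 1, 1, 2, 2, 2, 3, 2, 3, 3, 2, 1, 21, 19, 19, 15, 13, 15, 9, 11, 11, 6, 8, 8, 6, 7]]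
def rt : RT := (.node 140 (.node 70 (.node 35 (.node 17 (.node 8 (.node 4 (.node 2 (.node 1 (.leaf 0 0 []) (.leaf 1 2 [1, 2, 3, 6, 1, 4])) (.node 3 (.leaf 1 5 [6, 1, 4, 1, 2, 3]) (.leaf 2 3 [1, 4, 3, 3, 8, 1, 2, 2]))) (.node 6 (.node 5 (.leaf 10 2 [1, 1, 1, 1, 1]) (.leaf 12 3 [2, 2, 2, 2, 2, 2, 2])) (.node 7 (.leaf 3 5 [10, 6, 8, 5, 8, 5]) (.leaf 4 5 [12, 6, 7, 7, 5, 7])))) (.node 12 (.node 10 (.node 9 (.leaf 5 6 [14, 11, 9, 9, 11, 9, 12]) (.leaf 6 7 [16, 12, 9, 11, 11, 9, 9, 9])) (.node 11 (.leaf 7 1 [18, 13]) (.leaf 8 5 [20, 16, 13, 15, 15, 15]))) (.node 14 (.node 13 (.leaf 9 3 [21, 19, 17, 19]) (.leaf 30 2 [1, 4, 1, 20, 17, 15, 15, 9, 9, 11, 10, 10, 11, 7, 6, 6, 7, 3, 2])) (.node 15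 (.leaf 31 2 [2, 3, 4, 18, 15, 14, 16, 11, 11, 5, 7, 6, 6, 7, 3, 3]) (.node 16 (.leaf 2 7 [8, 1, 2, 2, 1, 4, 3, 3]) (.leaf 32 2 [2, 2, 1, 1, 20, 17, 15, 14, 15, 9, 9, 9, 11, 9, 9, 7, 5, 8, 6, 6, 2, 3])))))) (.node 26 (.node 21 (.node 19 (.node 18 (.leaf 33 2 [1, 2, 1, 1, 20, 17, 12, 9, 9, 6, 6, 8, 6, 7, 7, 2, 2]) (.leaf 34 3 [2, 1, 4, 21, 19, 15, 14, 15, 11, 10, 10, 10, 7, 5, 7, 1, 2, 1])) (.node 20 (.leaf 12 5 [2, 2, 2, 2, 2, 2, 2]) (.leaf 35 3 [2, 2, 2, 21, 20, 17, 15, 13, 13, 16, 16, 10, 10, 12, 5, 5, 8, 6, 7, 5, 8, 4, 3, 3]))) (.node 23 (.node 22 (.leaf 12 6 [2, 2, 2, 2, 2, 2, 2]) (.leaf 36 3 [2, 1, 2, 2, 17, 15, 14, 15, 12, 9, 9, 9, 5, 8, 5, 8, 5, 8, 3, 4, 1])) (.node 24 (.leaf 37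 3 [1, 2, 3, 2, 19, 16, 14, 15, 9, 11, 10, 10, 8, 6, 4, 4, 1]) (.node 25 (.leaf 38 3 [1, 4, 4, 4, 21, 19, 19, 16, 14, 15, 9, 11, 9, 9, 8, 6, 4, 1, 2]) (.leaf 39 3 [1, 2, 1, 2, 1, 17, 15, 13, 16, 9, 11, 9, 9, 9, 7, 6, 7, 7, 6, 3, 4, 4]))))) (.node 30 (.node 28 (.node 27 (.leaf 40 4 [1, 4, 3, 4, 21, 18, 19, 15, 13, 15, 11, 10, 5, 7, 6, 6, 8, 5, 8, 3, 2, 2, 1]) (.leaf 41 3 [2, 3, 2, 2, 3, 21, 15, 13, 13, 16, 16, 10, 12, 10, 6, 6, 8, 6, 7, 4, 1, 2])) (.node 29 (.leaf 12 2 [2, 2, 2, 2, 2, 2, 2]) (.leaf 42 3 [1, 2, 1, 1, 4, 21, 18, 19, 16, 14, 16, 13, 12, 9, 9, 9, 11, 5, 8, 5, 4, 3, 2]))) (.node 32 (.node 31 (.leaf 43 4 [2, 3, 2, 3, 3, 21, 17, 20, 17, 16, 14, 10, 12, 9, 5, 5, 8, 6, 7, 5, 4, 4,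 1, 2]) (.leaf 44 4 [1, 1, 2, 1, 2, 21, 17, 20, 17, 15, 15, 14, 9, 11, 10, 10, 10, 10, 6, 6, 8, 6, 7, 1, 2, 2, 2])) (.node 33 (.leaf 45 4 [2, 1, 2, 1, 2, 19, 19, 16, 16, 13, 9, 11, 6, 7, 5, 5, 7, 6, 4, 3, 2, 3]) (.node 34 (.leaf 46 4 [1, 4, 4, 1, 2, 17, 20, 17, 15, 15, 14, 10, 10, 12, 9, 8, 6, 6, 1, 1, 4, 1]) (.leaf 10 1 [1, 1, 1, 1, 1]))))))) (.node 52 (.node 43 (.node 39 (.node 37 (.node 36 (.leaf 47 4 [2, 1, 4, 1, 2, 21, 17, 20, 17, 1, 1, 4, 1]) (.leaf 48 4 [2, 2, 1, 4, 3, 21, 17, 20, 15, 13, 16, 9, 11, 10, 12, 5, 5, 7, 6, 6, 2, 3, 3, 2])) (.node 38 (.leaf 12 4 [2, 2, 2, 2, 2, 2, 2]) (.leaf 49 4 [1, 2, 2, 2, 3, 17, 17, 15, 15, 14, 11, 9, 7, 7, 6, 1, 4, 4, 4]))) (.node 41 (.node 40 (.leaf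 50 4 [1, 2, 2, 1, 2, 21, 17, 20, 17, 15, 14, 16, 9, 9, 11, 11, 7, 5, 8, 6, 7, 7, 1, 2, 3, 4]) (.leaf 25 8 [1, 2, 3, 4, 1, 2, 3, 4, 1, 2, 3, 4, 1, 2, 3, 4, 1, 2, 3, 4])) (.node 42 (.leaf 51 4 [1, 2, 3, 4, 3, 20, 17, 16, 13, 11, 10, 7, 6, 7, 5, 7, 7, 6, 1, 1, 4, 4]) (.leaf 52 4 [1, 4, 1, 2, 1, 17, 20, 9, 9, 11, 9, 8, 5, 2, 2, 2, 1])))) (.node 47 (.node 45 (.node 44 (.leaf 23 0 [1, 2, 1, 4, 1, 2, 1, 4, 1, 2, 1, 4, 1, 2, 1, 4, 1, 2, 1, 4, 1, 2, 1, 4]) (.leaf 53 4 [1, 4, 4, 3, 3, 21, 17, 20, 17, 15, 15, 13, 9, 9, 11, 11, 7, 6, 7, 7, 6, 4, 3, 4, 1])) (.node 46 (.leaf 54 4 [2, 1, 2, 2, 3, 21, 20, 15, 13, 16, 16, 9, 11, 10, 12, 9, 7, 5, 8, 6, 8, 4, 3, 4, 1]) (.leaf 55 4 [2, 1, 2, 3, 3, 18, 19,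 15, 13, 15, 14, 9, 12, 9, 11, 10, 6, 8, 8, 5, 1, 2, 2, 3]))) (.node 49 (.node 48 (.leaf 56 5 [2, 1, 4, 4, 3, 15, 13, 13, 9, 12, 9, 11, 5, 7, 6, 6, 7, 5, 1, 1, 4, 4, 3]) (.leaf 57 5 [2, 2, 3, 3, 2, 15, 13, 16, 16, 9, 9, 11, 10, 10, 5, 5, 8, 6, 8, 5, 8, 2, 2, 3, 4, 1])) (.node 50 (.leaf 58 4 [1, 4, 3, 2, 2, 3, 21, 20, 15, 15, 14, 16, 9, 12, 9, 11, 10, 6, 6, 7, 2, 3, 3, 4]) (.node 51 (.leaf 26 8 [1, 4, 3, 2, 1, 4, 3, 2, 1, 4, 3, 2, 1, 4, 3, 2, 1, 4, 3, 2]) (.leaf 11 4 [3, 3, 3, 3, 3])))))) (.node 61 (.node 56 (.node 54 (.node 53 (.leaf 59 4 [1, 1, 2, 2, 3, 3, 21, 19, 18, 15, 13, 13, 15, 9, 9, 11, 9, 5, 5, 7, 2, 1, 1, 4]) (.leaf 10 4 [1, 1, 1, 1, 1])) (.node 55 (.leaf 23 13 [2, 1, 4, 1, 2,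 1, 4, 1, 2, 1, 4, 1, 2, 1, 4, 1, 2, 1, 4, 1, 2, 1, 4, 1]) (.leaf 25 14 [3, 4, 1, 2, 3, 4, 1, 2, 3, 4, 1, 2, 3, 4, 1, 2, 3, 4, 1, 2]))) (.node 58 (.node 57 (.leaf 60 5 [1, 4, 1, 2, 2, 19, 16, 16, 13, 10, 11, 9, 11, 4, 1, 4, 1, 2]) (.leaf 61 5 [1, 4, 3, 2, 2, 21, 18, 19, 15, 14, 11, 11, 10, 8, 5, 7, 6, 8, 5, 1, 1, 2, 2, 2])) (.node 59 (.leaf 25 18 [3, 4, 1, 2, 3, 4, 1, 2, 3, 4, 1, 2, 3, 4, 1, 2, 3, 4, 1, 2]) (.node 60 (.leaf 62 5 [2, 2, 2, 1, 2, 19, 19, 16, 16, 5, 8, 5, 8, 2, 3, 3, 2, 1]) (.leaf 63 5 [1, 2, 1, 4, 3, 18, 15, 13, 13, 16, 16, 9, 11, 6, 7, 1, 2, 3, 3, 4]))))) (.node 65 (.node 63 (.node 62 (.leaf 64 4 [1, 4, 3, 4, 3, 3, 21, 16, 11, 10, 11, 7, 6, 7, 5, 7, 7, 4, 4, 1, 4]) (.leaf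 15 3 [4, 1, 4, 1, 4, 1, 4, 1, 4, 1, 4, 1, 4, 1, 4, 1, 4, 1, 4, 1, 4, 1, 4, 1])) (.node 64 (.leaf 27 22 [3, 4, 1, 4, 3, 4, 1, 4, 3, 4, 1, 4, 3, 4, 1, 4, 3, 4, 1, 4, 3, 4, 1, 4, 3, 4, 1, 4, 3, 4, 1, 4]) (.leaf 25 4 [1, 2, 3, 4, 1, 2, 3, 4, 1, 2, 3, 4, 1, 2, 3, 4, 1, 2, 3, 4]))) (.node 67 (.node 66 (.leaf 11 3 [3, 3, 3, 3, 3]) (.leaf 21 4 [4, 4, 3, 4, 4, 3, 4, 4, 3, 4, 4, 3, 4, 4, 3, 4, 4, 3, 4, 4, 3, 4, 4, 3, 4, 4, 3, 4, 4, 3, 4, 4, 3, 4, 4, 3])) (.node 68 (.leaf 26 12 [1, 4, 3, 2, 1, 4, 3, 2, 1, 4, 3, 2, 1, 4, 3, 2, 1, 4, 3, 2]) (.node 69 (.leaf 13 3 [4, 4, 4, 4, 4, 4, 4]) (.leaf 63 10 [18, 15, 13, 13, 16, 16, 9, 11, 6, 7, 1, 2, 3, 3, 4, 1, 2, 1, 4, 3])))))))) (.node 105 (.node 87 (.node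 78 (.node 74 (.node 72 (.node 71 (.leaf 30 5 [20, 17, 15, 15, 9, 9, 11, 10, 10, 11, 7, 6, 6, 7, 3, 2, 1, 4, 1]) (.leaf 34 6 [21, 19, 15, 14, 15, 11, 10, 10, 10, 7, 5, 7, 1, 2, 1, 2, 1, 4])) (.node 73 (.leaf 37 6 [2, 19, 16, 14, 15, 9, 11, 10, 10, 8, 6, 4, 4, 1, 1, 2, 3]) (.leaf 38 2 [2, 1, 4, 4, 4, 21, 19, 19, 16, 14, 15, 9, 11, 9, 9, 8, 6, 4, 1]))) (.node 76 (.node 75 (.leaf 52 5 [4, 1, 2, 1, 17, 20, 9, 9, 11, 9, 8, 5, 2, 2, 2, 1, 1]) (.leaf 37 7 [19, 16, 14, 15, 9, 11, 10, 10, 8, 6, 4, 4, 1, 1, 2, 3, 2])) (.node 77 (.leaf 38 7 [21, 19, 19, 16, 14, 15, 9, 11, 9, 9, 8, 6, 4, 1, 2, 1, 4, 4, 4]) (.leaf 52 9 [17, 20, 9, 9, 11, 9, 8, 5, 2, 2, 2, 1, 1, 4, 1, 2, 1])))) (.node 82 (.node 80 (.node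 79 (.leaf 47 3 [1, 2, 1, 4, 1, 2, 21, 17, 20, 17, 1, 1, 4]) (.leaf 14 25 [2, 1, 2, 1, 2, 1, 2, 1, 2, 1, 2, 1, 2, 1, 2, 1, 2, 1, 2, 1, 2, 1, 2, 1, 2, 1])) (.node 81 (.leaf 26 2 [3, 2, 1, 4, 3, 2, 1, 4, 3, 2, 1, 4, 3, 2, 1, 4, 3, 2, 1, 4]) (.leaf 65 5 [1, 4, 4, 4, 1, 20, 16, 14, 16, 10, 10, 10, 10, 7, 6, 8, 5, 3, 3, 4, 1, 4]))) (.node 84 (.node 83 (.leaf 10 3 [1, 1, 1, 1, 1]) (.leaf 66 5 [1, 2, 3, 2, 2, 17, 15, 13, 13, 16, 10, 10, 10, 10, 5, 5, 8, 6, 1, 2, 1, 1, 2])) (.node 85 (.leaf 23 9 [2, 1, 4, 1, 2, 1, 4, 1, 2, 1, 4, 1, 2, 1, 4, 1, 2, 1, 4, 1, 2, 1, 4, 1]) (.node 86 (.leaf 26 6 [3, 2, 1, 4, 3, 2, 1, 4, 3, 2, 1, 4, 3, 2, 1, 4, 3, 2, 1, 4]) (.leaf 25 16 [1, 2, 3, 4, 1, 2, 3, 4, 1, 2,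 3, 4, 1, 2, 3, 4, 1, 2, 3, 4])))))) (.node 96 (.node 91 (.node 89 (.node 88 (.leaf 11 1 [3, 3, 3, 3, 3]) (.leaf 67 5 [2, 1, 4, 3, 3, 4, 17, 17, 15, 13, 16, 16, 12, 9, 9, 9, 11, 5, 5, 8, 6, 7, 5, 3, 4, 4, 4, 3])) (.node 90 (.leaf 68 5 [1, 2, 3, 4, 4, 1, 21, 17, 17, 15, 13, 10, 10, 10, 5, 5, 8, 3, 4, 4, 4, 1]) (.leaf 69 5 [2, 1, 4, 3, 3, 2, 21, 17, 20, 16, 14, 16, 16, 10, 11, 11, 7, 5, 8, 6, 7, 4, 1, 4, 4, 1]))) (.node 93 (.node 92 (.leaf 70 5 [2, 3, 2, 2, 2, 1, 21, 17, 20, 17, 15, 13, 13, 16, 16, 9, 12, 9, 9, 9, 7, 5, 8, 6, 2, 2, 3, 4, 3]) (.leaf 71 5 [1, 1, 2, 3, 2, 1, 15, 13, 13, 16, 16, 9, 9, 11, 7, 5, 5, 8, 8, 3, 2, 2, 3, 4])) (.node 94 (.leaf 72 5 [2, 2, 3, 4, 3, 4, 17, 20, 17, 15,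 13, 16, 9, 11, 9, 9, 6, 8, 4, 4, 3, 2, 1]) (.node 95 (.leaf 73 5 [2, 1, 2, 3, 2, 1, 19, 15, 15, 14, 9, 12, 10, 8, 8, 6, 8, 5, 8, 3, 4, 1, 4, 1]) (.leaf 66 21 [8, 6, 1, 2, 1, 1, 2, 1, 2, 3, 2, 2, 17, 15, 13, 13, 16, 10, 10, 10, 10, 5, 5]))))) (.node 100 (.node 98 (.node 97 (.leaf 2 2 [2, 1, 4, 3, 3, 8, 1, 2]) (.leaf 74 5 [2, 2, 3, 3, 2, 1, 21, 17, 20, 16, 14, 15, 10, 10, 11, 5, 7, 6, 6, 7, 6, 2, 3, 3, 2, 3])) (.node 99 (.leaf 75 5 [2, 2, 3, 2, 1, 1, 18, 19, 15, 9, 9, 9, 12, 5, 8, 5, 8, 5, 4, 1, 4, 1, 2]) (.leaf 28 29 [3, 2, 2, 3, 3, 2, 2, 3, 3, 2, 2, 3, 3, 2, 2, 3, 3, 2, 2, 3, 3, 2, 2, 3, 3, 2, 2, 3, 3, 2, 2, 3]))) (.node 102 (.node 101 (.leaf 76 5 [2, 2, 1, 4, 4, 1, 18, 19, 16, 14, 15,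 9, 11, 10, 12, 5, 8, 5, 7, 3, 2, 2, 2, 1]) (.leaf 77 5 [2, 1, 2, 2, 3, 2, 21, 17, 15, 13, 15, 9, 11, 10, 10, 10, 6, 8, 8, 6, 3, 2, 2, 1, 2])) (.node 103 (.leaf 24 1 [2, 3, 2, 1, 2, 3, 2, 1, 2, 3, 2, 1, 2, 3, 2, 1, 2, 3, 2, 1, 2, 3, 2, 1, 2, 3, 2, 1, 2, 3, 2, 1]) (.node 104 (.leaf 78 5 [2, 1, 1, 2, 3, 3, 20, 17, 16, 13, 9, 11, 9, 9, 6, 6, 7, 5, 4, 3, 4, 4, 1]) (.leaf 79 5 [1, 2, 1, 1, 2, 1, 17, 20, 15, 9, 9, 12, 5, 7, 5, 8, 6, 7, 3, 4, 1, 4, 4]))))))) (.node 122 (.node 113 (.node 109 (.node 107 (.node 106 (.leaf 14 24 [1, 2, 1, 2, 1, 2, 1, 2, 1, 2, 1, 2, 1, 2, 1, 2, 1, 2, 1, 2, 1, 2, 1, 2, 1, 2]) (.leaf 80 5 [1, 2, 3, 3, 2, 1, 21, 19, 16, 14, 9, 9, 11, 9, 7, 2, 2, 3, 4, 4])) (.node 108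 (.leaf 80 2 [3, 4, 4, 1, 2, 3, 3, 2, 1, 21, 19, 16, 14, 9, 9, 11, 9, 7, 2, 2]) (.leaf 15 15 [4, 1, 4, 1, 4, 1, 4, 1, 4, 1, 4, 1, 4, 1, 4, 1, 4, 1, 4, 1, 4, 1, 4, 1]))) (.node 111 (.node 110 (.leaf 81 5 [1, 1, 4, 3, 3, 4, 19, 18, 15, 13, 15, 14, 9, 9, 11, 10, 10, 11, 5, 8, 8, 5, 7, 4, 1, 4, 1, 4]) (.leaf 82 5 [2, 1, 1, 2, 2, 1, 17, 15, 14, 10, 12, 10, 11, 9, 5, 7, 6, 6, 7, 6, 8, 2, 2, 3, 2, 1])) (.node 112 (.leaf 83 5 [2, 3, 4, 3, 3, 2, 21, 18, 15, 14, 16, 13, 11, 10, 10, 5, 8, 5, 5, 1, 2, 1, 1, 2]) (.leaf 16 6 [3, 2, 3, 2, 3, 2, 3, 2, 3, 2, 3, 2, 3, 2, 3, 2, 3, 2, 3, 2, 3, 2, 3, 2])))) (.node 117 (.node 115 (.node 114 (.leaf 84 5 [1, 4, 4, 3, 4, 3, 3, 19, 18, 15, 15, 14, 16, 10, 12, 9,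 5, 8, 5, 7, 5, 7, 4, 1, 1, 2, 1]) (.leaf 85 6 [1, 4, 4, 4, 1, 2, 19, 19, 15, 14, 15, 10, 11, 11, 8, 6, 3, 4, 1, 1, 2, 1])) (.node 116 (.leaf 24 31 [2, 1, 2, 3, 2, 1, 2, 3, 2, 1, 2, 3, 2, 1, 2, 3, 2, 1, 2, 3, 2, 1, 2, 3, 2, 1, 2, 3, 2, 1, 2, 3]) (.leaf 45 21 [6, 4, 3, 2, 3, 2, 1, 2, 1, 2, 19, 19, 16, 16, 13, 9, 11, 6, 7, 5, 5, 7]))) (.node 119 (.node 118 (.leaf 12 1 [2, 2, 2, 2, 2, 2, 2]) (.leaf 86 6 [1, 1, 2, 1, 4, 4, 21, 20, 16, 14, 15, 11, 10, 10, 5, 5, 8, 6, 6, 7, 2, 3, 3, 2, 3, 4])) (.node 120 (.leaf 87 6 [1, 4, 4, 3, 3, 4, 21, 20, 17, 15, 9, 9, 9, 11, 9, 9, 5, 8, 5, 8, 8, 6, 3, 4, 3, 2, 2, 2]) (.node 121 (.leaf 88 6 [1, 4, 1, 4, 3, 2, 17, 20, 16, 14, 16, 13, 11, 11, 10, 10, 8, 8,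 5, 4, 1, 1, 4, 3, 2]) (.leaf 47 6 [4, 1, 2, 21, 17, 20, 17, 1, 1, 4, 1, 2, 1])))))) (.node 131 (.node 126 (.node 124 (.node 123 (.leaf 42 21 [8, 5, 4, 3, 2, 1, 2, 1, 1, 4, 21, 18, 19, 16, 14, 16, 13, 12, 9, 9, 9, 11, 5]) (.leaf 83 7 [4, 3, 3, 2, 21, 18, 15, 14, 16, 13, 11, 10, 10, 5, 8, 5, 5, 1, 2, 1, 1, 2, 2, 3])) (.node 125 (.leaf 36 20 [8, 3, 4, 1, 2, 1, 2, 2, 17, 15, 14, 15, 12, 9, 9, 9, 5, 8, 5, 8, 5]) (.leaf 29 8 [3, 2, 3, 4, 3, 2, 3, 4, 3, 2, 3, 4, 3, 2, 3, 4, 3, 2, 3, 4, 3, 2, 3, 4]))) (.node 128 (.node 127 (.leaf 2 0 [1, 2, 2, 1, 4, 3, 3, 8]) (.leaf 28 5 [3, 2, 2, 3, 3, 2, 2, 3, 3, 2, 2, 3, 3, 2, 2, 3, 3, 2, 2, 3, 3, 2, 2, 3, 3, 2, 2, 3, 3, 2, 2, 3])) (.node 129 (.leaf 16 13 [2,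 3, 2, 3, 2, 3, 2, 3, 2, 3, 2, 3, 2, 3, 2, 3, 2, 3, 2, 3, 2, 3, 2, 3]) (.node 130 (.leaf 29 10 [3, 4, 3, 2, 3, 4, 3, 2, 3, 4, 3, 2, 3, 4, 3, 2, 3, 4, 3, 2, 3, 4, 3, 2]) (.leaf 42 22 [5, 4, 3, 2, 1, 2, 1, 1, 4, 21, 18, 19, 16, 14, 16, 13, 12, 9, 9, 9, 11, 5, 8]))))) (.node 135 (.node 133 (.node 132 (.leaf 62 17 [8, 2, 3, 3, 2, 1, 2, 2, 2, 1, 2, 19, 19, 16, 16, 5, 8, 5]) (.leaf 76 23 [7, 3, 2, 2, 2, 1, 2, 2, 1, 4, 4, 1, 18, 19, 16, 14, 15, 9, 11, 10, 12, 5, 8, 5])) (.node 134 (.leaf 84 25 [5, 7, 4, 1, 1, 2, 1, 1, 4, 4, 3, 4, 3, 3, 19, 18, 15, 15, 14, 16, 10, 12, 9, 5, 8, 5, 7]) (.leaf 36 19 [5, 8, 3, 4, 1, 2, 1, 2, 2, 17, 15, 14, 15, 12, 9, 9, 9, 5, 8, 5, 8]))) (.node 137 (.node 136 (.leaf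 1 1 [4, 1, 2, 3, 6, 1]) (.leaf 2 5 [3, 3, 8, 1, 2, 2, 1, 4])) (.node 138 (.leaf 1 3 [2, 3, 6, 1, 4, 1]) (.node 139 (.leaf 72 3 [2, 1, 2, 2, 3, 4, 3, 4, 17, 20, 17, 15, 13, 16, 9, 11, 9, 9, 6, 8, 4, 4, 3]) (.leaf 25 0 [1, 2, 3, 4, 1, 2, 3, 4, 1, 2, 3, 4, 1, 2, 3, 4, 1, 2, 3, 4]))))))))) (.node 210 (.node 175 (.node 157 (.node 148 (.node 144 (.node 142 (.node 141 (.leaf 26 5 [4, 3, 2, 1, 4, 3, 2, 1, 4, 3, 2, 1, 4, 3, 2, 1, 4, 3, 2, 1]) (.leaf 21 5 [4, 3, 4, 4, 3, 4, 4, 3, 4, 4, 3, 4, 4, 3, 4, 4, 3, 4, 4, 3, 4, 4, 3, 4, 4, 3, 4, 4, 3, 4, 4, 3, 4, 4, 3, 4])) (.node 143 (.leaf 31 13 [6, 6, 7, 3, 3, 2, 3, 4, 18, 15, 14, 16, 11, 11, 5, 7]) (.leaf 89 6 [2, 1, 2, 3, 3, 2, 21, 19, 19, 16, 16, 13,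 9, 11, 9, 5, 7, 5, 8, 6, 7, 3, 4, 4, 3, 3, 2]))) (.node 146 (.node 145 (.leaf 28 27 [2, 3, 3, 2, 2, 3, 3, 2, 2, 3, 3, 2, 2, 3, 3, 2, 2, 3, 3, 2, 2, 3, 3, 2, 2, 3, 3, 2, 2, 3, 3, 2]) (.leaf 2 4 [4, 3, 3, 8, 1, 2, 2, 1])) (.node 147 (.leaf 26 11 [2, 1, 4, 3, 2, 1, 4, 3, 2, 1, 4, 3, 2, 1, 4, 3, 2, 1, 4, 3]) (.leaf 29 2 [3, 4, 3, 2, 3, 4, 3, 2, 3, 4, 3, 2, 3, 4, 3, 2, 3, 4, 3, 2, 3, 4, 3, 2])))) (.node 152 (.node 150 (.node 149 (.leaf 46 1 [1, 4, 1, 1, 4, 4, 1, 2, 17, 20, 17, 15, 15, 14, 10, 10, 12, 9, 8, 6, 6, 1]) (.leaf 85 3 [1, 2, 1, 1, 4, 4, 4, 1, 2, 19, 19, 15, 14, 15, 10, 11, 11, 8, 6, 3, 4, 1])) (.node 151 (.leaf 68 2 [4, 4, 1, 1, 2, 3, 4, 4, 1, 21, 17, 17, 15, 13, 10, 10, 10, 5, 5,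 8, 3, 4]) (.leaf 75 0 [4, 1, 4, 1, 2, 2, 2, 3, 2, 1, 1, 18, 19, 15, 9, 9, 9, 12, 5, 8, 5, 8, 5]))) (.node 154 (.node 153 (.leaf 14 5 [2, 1, 2, 1, 2, 1, 2, 1, 2, 1, 2, 1, 2, 1, 2, 1, 2, 1, 2, 1, 2, 1, 2, 1, 2, 1]) (.leaf 14 1 [2, 1, 2, 1, 2, 1, 2, 1, 2, 1, 2, 1, 2, 1, 2, 1, 2, 1, 2, 1, 2, 1, 2, 1, 2, 1])) (.node 155 (.leaf 26 1 [4, 3, 2, 1, 4, 3, 2, 1, 4, 3, 2, 1, 4, 3, 2, 1, 4, 3, 2, 1]) (.node 156 (.leaf 29 23 [4, 3, 2, 3, 4, 3, 2, 3, 4, 3, 2, 3, 4, 3, 2, 3, 4, 3, 2, 3, 4, 3, 2, 3]) (.leaf 58 23 [7, 2, 3, 3, 4, 1, 4, 3, 2, 2, 3, 21, 20, 15, 15, 14, 16, 9, 12, 9, 11, 10, 6, 6])))))) (.node 166 (.node 161 (.node 159 (.node 158 (.leaf 17 22 [3, 4, 3, 4, 3, 4, 3, 4, 3, 4, 3, 4, 3, 4, 3, 4,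 3, 4, 3, 4, 3, 4, 3, 4, 3, 4]) (.leaf 27 17 [4, 3, 4, 1, 4, 3, 4, 1, 4, 3, 4, 1, 4, 3, 4, 1, 4, 3, 4, 1, 4, 3, 4, 1, 4, 3, 4, 1, 4, 3, 4, 1])) (.node 160 (.leaf 24 17 [2, 3, 2, 1, 2, 3, 2, 1, 2, 3, 2, 1, 2, 3, 2, 1, 2, 3, 2, 1, 2, 3, 2, 1, 2, 3, 2, 1, 2, 3, 2, 1]) (.leaf 29 11 [4, 3, 2, 3, 4, 3, 2, 3, 4, 3, 2, 3, 4, 3, 2, 3, 4, 3, 2, 3, 4, 3, 2, 3]))) (.node 163 (.node 162 (.leaf 20 18 [3, 3, 2, 3, 3, 2, 3, 3, 2, 3, 3, 2, 3, 3, 2, 3, 3, 2, 3, 3, 2, 3, 3, 2, 3, 3, 2, 3, 3, 2, 3, 3, 2, 3, 3, 2]) (.leaf 78 22 [5, 4, 3, 4, 4, 1, 2, 1, 1, 2, 3, 3, 20, 17, 16, 13, 9, 11, 9, 9, 6, 6, 7])) (.node 164 (.leaf 11 2 [3, 3, 3, 3, 3]) (.node 165 (.leaf 13 4 [4, 4, 4, 4, 4, 4, 4]) (.leaf 26 17 [4, 3,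 2, 1, 4, 3, 2, 1, 4, 3, 2, 1, 4, 3, 2, 1, 4, 3, 2, 1]))))) (.node 170 (.node 168 (.node 167 (.leaf 29 15 [4, 3, 2, 3, 4, 3, 2, 3, 4, 3, 2, 3, 4, 3, 2, 3, 4, 3, 2, 3, 4, 3, 2, 3]) (.leaf 22 25 [1, 4, 4, 1, 1, 4, 4, 1, 1, 4, 4, 1, 1, 4, 4, 1, 1, 4, 4, 1, 1, 4, 4, 1, 1, 4, 4, 1, 1, 4, 4, 1])) (.node 169 (.leaf 13 6 [4, 4, 4, 4, 4, 4, 4]) (.leaf 74 4 [3, 2, 2, 3, 3, 2, 1, 21, 17, 20, 16, 14, 15, 10, 10, 11, 5, 7, 6, 6, 7, 6, 2, 3, 3, 2]))) (.node 172 (.node 171 (.leaf 24 0 [1, 2, 3, 2, 1, 2, 3, 2, 1, 2, 3, 2, 1, 2, 3, 2, 1, 2, 3, 2, 1, 2, 3, 2, 1, 2, 3, 2, 1, 2, 3, 2]) (.leaf 17 23 [4, 3, 4, 3, 4, 3, 4, 3, 4, 3, 4, 3, 4, 3, 4, 3, 4, 3, 4, 3, 4, 3, 4, 3, 4, 3])) (.node 173 (.leaf 26 18 [3,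 2, 1, 4, 3, 2, 1, 4, 3, 2, 1, 4, 3, 2, 1, 4, 3, 2, 1, 4]) (.node 174 (.leaf 77 0 [3, 2, 2, 1, 2, 2, 1, 2, 2, 3, 2, 21, 17, 15, 13, 15, 9, 11, 10, 10, 10, 6, 8, 8, 6]) (.leaf 90 6 [1, 2, 2, 1, 2, 1, 21, 17, 20, 16, 14, 15, 9, 11, 10, 12, 6, 8, 6, 7, 7, 7, 3, 4, 1, 1, 2, 2]))))))) (.node 192 (.node 183 (.node 179 (.node 177 (.node 176 (.leaf 91 6 [2, 2, 2, 1, 4, 4, 20, 15, 13, 9, 11, 10, 10, 5, 5, 8, 6, 7, 5, 8, 2, 3, 3, 2, 1, 1]) (.leaf 92 5 [2, 1, 1, 4, 1, 1, 4, 21, 19, 18, 15, 15, 14, 11, 7, 5, 8, 6, 8, 6, 4, 1, 1, 2, 2])) (.node 178 (.leaf 28 20 [3, 3, 2, 2, 3, 3, 2, 2, 3, 3, 2, 2, 3, 3, 2, 2, 3, 3, 2, 2, 3, 3, 2, 2, 3, 3, 2, 2, 3, 3, 2, 2]) (.leaf 20 4 [3, 2, 3, 3, 2, 3, 3, 2, 3, 3,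 2, 3, 3, 2, 3, 3, 2, 3, 3, 2, 3, 3, 2, 3, 3, 2, 3, 3, 2, 3, 3, 2, 3, 3, 2, 3]))) (.node 181 (.node 180 (.leaf 20 20 [2, 3, 3, 2, 3, 3, 2, 3, 3, 2, 3, 3, 2, 3, 3, 2, 3, 3, 2, 3, 3, 2, 3, 3, 2, 3, 3, 2, 3, 3, 2, 3, 3, 2, 3, 3]) (.leaf 24 30 [3, 2, 1, 2, 3, 2, 1, 2, 3, 2, 1, 2, 3, 2, 1, 2, 3, 2, 1, 2, 3, 2, 1, 2, 3, 2, 1, 2, 3, 2, 1, 2])) (.node 182 (.leaf 25 7 [4, 1, 2, 3, 4, 1, 2, 3, 4, 1, 2, 3, 4, 1, 2, 3, 4, 1, 2, 3]) (.leaf 71 22 [8, 8, 3, 2, 2, 3, 4, 1, 1, 2, 3, 2, 1, 15, 13, 13, 16, 16, 9, 9, 11, 7, 5, 5])))) (.node 187 (.node 185 (.node 184 (.leaf 16 20 [3, 2, 3, 2, 3, 2, 3, 2, 3, 2, 3, 2, 3, 2, 3, 2, 3, 2, 3, 2, 3, 2, 3, 2]) (.leaf 19 34 [2, 2, 1, 2, 2, 1, 2, 2, 1, 2, 2, 1, 2, 2,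 1, 2, 2, 1, 2, 2, 1, 2, 2, 1, 2, 2, 1, 2, 2, 1, 2, 2, 1, 2, 2, 1])) (.node 186 (.leaf 27 8 [1, 4, 3, 4, 1, 4, 3, 4, 1, 4, 3, 4, 1, 4, 3, 4, 1, 4, 3, 4, 1, 4, 3, 4, 1, 4, 3, 4, 1, 4, 3, 4]) (.leaf 93 6 [2, 1, 2, 1, 4, 4, 18, 15, 13, 13, 16, 9, 12, 9, 11, 10, 5, 7, 6, 6, 7, 6, 7, 3, 4, 3, 3, 4, 1]))) (.node 189 (.node 188 (.leaf 71 23 [8, 3, 2, 2, 3, 4, 1, 1, 2, 3, 2, 1, 15, 13, 13, 16, 16, 9, 9, 11, 7, 5, 5, 8]) (.leaf 81 26 [5, 7, 4, 1, 4, 1, 4, 1, 1, 4, 3, 3, 4, 19, 18, 15, 13, 15, 14, 9, 9, 11, 10, 10, 11, 5, 8, 8])) (.node 190 (.leaf 94 5 [2, 3, 2, 3, 3, 2, 1, 21, 19, 19, 15, 13, 15, 9, 11, 11, 6, 8, 8, 6, 7, 2, 1, 1, 2, 2]) (.node 191 (.leaf 16 23 [2, 3, 2, 3, 2, 3, 2, 3, 2, 3, 2,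 3, 2, 3, 2, 3, 2, 3, 2, 3, 2, 3, 2, 3]) (.leaf 24 25 [2, 3, 2, 1, 2, 3, 2, 1, 2, 3, 2, 1, 2, 3, 2, 1, 2, 3, 2, 1, 2, 3, 2, 1, 2, 3, 2, 1, 2, 3, 2, 1])))))) (.node 201 (.node 196 (.node 194 (.node 193 (.leaf 23 18 [1, 4, 1, 2, 1, 4, 1, 2, 1, 4, 1, 2, 1, 4, 1, 2, 1, 4, 1, 2, 1, 4, 1, 2]) (.leaf 20 0 [3, 3, 2, 3, 3, 2, 3, 3, 2, 3, 3, 2, 3, 3, 2, 3, 3, 2, 3, 3, 2, 3, 3, 2, 3, 3, 2, 3, 3, 2, 3, 3, 2, 3, 3, 2])) (.node 195 (.leaf 28 2 [2, 2, 3, 3, 2, 2, 3, 3, 2, 2, 3, 3, 2, 2, 3, 3, 2, 2, 3, 3, 2, 2, 3, 3, 2, 2, 3, 3, 2, 2, 3, 3]) (.leaf 14 9 [2, 1, 2, 1, 2, 1, 2, 1, 2, 1, 2, 1, 2, 1, 2, 1, 2, 1, 2, 1, 2, 1, 2, 1, 2, 1]))) (.node 198 (.node 197 (.leaf 62 2 [3, 2, 1, 2, 2, 2, 1, 2, 19, 19, 16,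 16, 5, 8, 5, 8, 2, 3]) (.leaf 20 24 [3, 3, 2, 3, 3, 2, 3, 3, 2, 3, 3, 2, 3, 3, 2, 3, 3, 2, 3, 3, 2, 3, 3, 2, 3, 3, 2, 3, 3, 2, 3, 3, 2, 3, 3, 2])) (.node 199 (.leaf 61 21 [6, 8, 5, 1, 1, 2, 2, 2, 1, 4, 3, 2, 2, 21, 18, 19, 15, 14, 11, 11, 10, 8, 5, 7]) (.node 200 (.leaf 86 25 [7, 2, 3, 3, 2, 3, 4, 1, 1, 2, 1, 4, 4, 21, 20, 16, 14, 15, 11, 10, 10, 5, 5, 8, 6, 6]) (.leaf 28 6 [2, 2, 3, 3, 2, 2, 3, 3, 2, 2, 3, 3, 2, 2, 3, 3, 2, 2, 3, 3, 2, 2, 3, 3, 2, 2, 3, 3, 2, 2, 3, 3]))))) (.node 205 (.node 203 (.node 202 (.leaf 25 15 [4, 1, 2, 3, 4, 1, 2, 3, 4, 1, 2, 3, 4, 1, 2, 3, 4, 1, 2, 3]) (.leaf 29 20 [3, 2, 3, 4, 3, 2, 3, 4, 3, 2, 3, 4, 3, 2, 3, 4, 3, 2, 3, 4, 3, 2, 3, 4])) (.node 204 (.leaf 16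 7 [2, 3, 2, 3, 2, 3, 2, 3, 2, 3, 2, 3, 2, 3, 2, 3, 2, 3, 2, 3, 2, 3, 2, 3]) (.leaf 26 19 [2, 1, 4, 3, 2, 1, 4, 3, 2, 1, 4, 3, 2, 1, 4, 3, 2, 1, 4, 3]))) (.node 207 (.node 206 (.leaf 23 12 [1, 2, 1, 4, 1, 2, 1, 4, 1, 2, 1, 4, 1, 2, 1, 4, 1, 2, 1, 4, 1, 2, 1, 4]) (.leaf 25 13 [2, 3, 4, 1, 2, 3, 4, 1, 2, 3, 4, 1, 2, 3, 4, 1, 2, 3, 4, 1])) (.node 208 (.leaf 29 3 [4, 3, 2, 3, 4, 3, 2, 3, 4, 3, 2, 3, 4, 3, 2, 3, 4, 3, 2, 3, 4, 3, 2, 3]) (.node 209 (.leaf 19 0 [1, 2, 2, 1, 2, 2, 1, 2, 2, 1, 2, 2, 1, 2, 2, 1, 2, 2, 1, 2, 2, 1, 2, 2, 1, 2, 2, 1, 2, 2, 1, 2, 2, 1, 2, 2]) (.leaf 84 26 [7, 4, 1, 1, 2, 1, 1, 4, 4, 3, 4, 3, 3, 19, 18, 15, 15, 14, 16, 10, 12, 9, 5, 8, 5, 7, 5])))))))) (.node 245 (.node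 227 (.node 218 (.node 214 (.node 212 (.node 211 (.leaf 54 22 [8, 6, 8, 4, 3, 4, 1, 2, 1, 2, 2, 3, 21, 20, 15, 13, 16, 16, 9, 11, 10, 12, 9, 7, 5]) (.leaf 69 25 [7, 4, 1, 4, 4, 1, 2, 1, 4, 3, 3, 2, 21, 17, 20, 16, 14, 16, 16, 10, 11, 11, 7, 5, 8, 6])) (.node 213 (.leaf 92 7 [1, 4, 1, 1, 4, 21, 19, 18, 15, 15, 14, 11, 7, 5, 8, 6, 8, 6, 4, 1, 1, 2, 2, 2, 1]) (.leaf 2 1 [2, 2, 1, 4, 3, 3, 8, 1]))) (.node 216 (.node 215 (.leaf 32 21 [6, 2, 3, 2, 2, 1, 1, 20, 17, 15, 14, 15, 9, 9, 9, 11, 9, 9, 7, 5, 8, 6]) (.leaf 53 24 [6, 4, 3, 4, 1, 1, 4, 4, 3, 3, 21, 17, 20, 17, 15, 15, 13, 9, 9, 11, 11, 7, 6, 7, 7])) (.node 217 (.leaf 15 13 [4, 1, 4, 1, 4, 1, 4, 1, 4, 1, 4, 1, 4, 1, 4, 1, 4, 1, 4, 1, 4,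 1, 4, 1]) (.leaf 22 18 [4, 4, 1, 1, 4, 4, 1, 1, 4, 4, 1, 1, 4, 4, 1, 1, 4, 4, 1, 1, 4, 4, 1, 1, 4, 4, 1, 1, 4, 4, 1, 1])))) (.node 222 (.node 220 (.node 219 (.leaf 1 0 [1, 4, 1, 2, 3, 6]) (.leaf 39 4 [2, 1, 2, 1, 17, 15, 13, 16, 9, 11, 9, 9, 9, 7, 6, 7, 7, 6, 3, 4, 4, 1])) (.node 221 (.leaf 15 23 [4, 1, 4, 1, 4, 1, 4, 1, 4, 1, 4, 1, 4, 1, 4, 1, 4, 1, 4, 1, 4, 1, 4, 1]) (.leaf 24 6 [3, 2, 1, 2, 3, 2, 1, 2, 3, 2, 1, 2, 3, 2, 1, 2, 3, 2, 1, 2, 3, 2, 1, 2, 3, 2, 1, 2, 3, 2, 1, 2]))) (.node 224 (.node 223 (.leaf 13 2 [4, 4, 4, 4, 4, 4, 4]) (.leaf 23 15 [4, 1, 2, 1, 4, 1, 2, 1, 4, 1, 2, 1, 4, 1, 2, 1, 4, 1, 2, 1, 4, 1, 2, 1])) (.node 225 (.leaf 43 23 [5, 4, 4, 1, 2, 2, 3, 2, 3, 3, 21, 17, 20,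 17, 16, 14, 10, 12, 9, 5, 5, 8, 6, 7]) (.node 226 (.leaf 18 25 [1, 4, 1, 1, 4, 1, 1, 4, 1, 1, 4, 1, 1, 4, 1, 1, 4, 1, 1, 4, 1, 1, 4, 1, 1, 4, 1, 1, 4, 1, 1, 4, 1, 1, 4, 1]) (.leaf 26 4 [1, 4, 3, 2, 1, 4, 3, 2, 1, 4, 3, 2, 1, 4, 3, 2, 1, 4, 3, 2])))))) (.node 236 (.node 231 (.node 229 (.node 228 (.leaf 80 3 [4, 4, 1, 2, 3, 3, 2, 1, 21, 19, 16, 14, 9, 9, 11, 9, 7, 2, 2, 3]) (.leaf 14 4 [1, 2, 1, 2, 1, 2, 1, 2, 1, 2, 1, 2, 1, 2, 1, 2, 1, 2, 1, 2, 1, 2, 1, 2, 1, 2])) (.node 230 (.leaf 23 4 [1, 2, 1, 4, 1, 2, 1, 4, 1, 2, 1, 4, 1, 2, 1, 4, 1, 2, 1, 4, 1, 2, 1, 4]) (.leaf 24 28 [1, 2, 3, 2, 1, 2, 3, 2, 1, 2, 3, 2, 1, 2, 3, 2, 1, 2, 3, 2, 1, 2, 3, 2, 1, 2, 3, 2, 1, 2, 3, 2]))) (.node 233 (.node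 232 (.leaf 20 2 [2, 3, 3, 2, 3, 3, 2, 3, 3, 2, 3, 3, 2, 3, 3, 2, 3, 3, 2, 3, 3, 2, 3, 3, 2, 3, 3, 2, 3, 3, 2, 3, 3, 2, 3, 3]) (.leaf 20 22 [3, 2, 3, 3, 2, 3, 3, 2, 3, 3, 2, 3, 3, 2, 3, 3, 2, 3, 3, 2, 3, 3, 2, 3, 3, 2, 3, 3, 2, 3, 3, 2, 3, 3, 2, 3])) (.node 234 (.leaf 16 0 [3, 2, 3, 2, 3, 2, 3, 2, 3, 2, 3, 2, 3, 2, 3, 2, 3, 2, 3, 2, 3, 2, 3, 2]) (.node 235 (.leaf 19 20 [2, 1, 2, 2, 1, 2, 2, 1, 2, 2, 1, 2, 2, 1, 2, 2, 1, 2, 2, 1, 2, 2, 1, 2, 2, 1, 2, 2, 1, 2, 2, 1, 2, 2, 1, 2]) (.leaf 13 5 [4, 4, 4, 4, 4, 4, 4]))))) (.node 240 (.node 238 (.node 237 (.leaf 22 14 [4, 4, 1, 1, 4, 4, 1, 1, 4, 4, 1, 1, 4, 4, 1, 1, 4, 4, 1, 1, 4, 4, 1, 1, 4, 4, 1, 1, 4, 4, 1, 1]) (.leaf 23 19 [4, 1, 2, 1, 4, 1,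 2, 1, 4, 1, 2, 1, 4, 1, 2, 1, 4, 1, 2, 1, 4, 1, 2, 1])) (.node 239 (.leaf 20 19 [3, 2, 3, 3, 2, 3, 3, 2, 3, 3, 2, 3, 3, 2, 3, 3, 2, 3, 3, 2, 3, 3, 2, 3, 3, 2, 3, 3, 2, 3, 3, 2, 3, 3, 2, 3]) (.leaf 16 14 [3, 2, 3, 2, 3, 2, 3, 2, 3, 2, 3, 2, 3, 2, 3, 2, 3, 2, 3, 2, 3, 2, 3, 2]))) (.node 242 (.node 241 (.leaf 27 4 [1, 4, 3, 4, 1, 4, 3, 4, 1, 4, 3, 4, 1, 4, 3, 4, 1, 4, 3, 4, 1, 4, 3, 4, 1, 4, 3, 4, 1, 4, 3, 4]) (.leaf 17 21 [4, 3, 4, 3, 4, 3, 4, 3, 4, 3, 4, 3, 4, 3, 4, 3, 4, 3, 4, 3, 4, 3, 4, 3, 4, 3])) (.node 243 (.leaf 22 7 [4, 1, 1, 4, 4, 1, 1, 4, 4, 1, 1, 4, 4, 1, 1, 4, 4, 1, 1, 4, 4, 1, 1, 4, 4, 1, 1, 4, 4, 1, 1, 4]) (.node 244 (.leaf 15 2 [1, 4, 1, 4, 1, 4, 1, 4, 1, 4, 1, 4, 1, 4, 1,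 4, 1, 4, 1, 4, 1, 4, 1, 4]) (.leaf 24 16 [1, 2, 3, 2, 1, 2, 3, 2, 1, 2, 3, 2, 1, 2, 3, 2, 1, 2, 3, 2, 1, 2, 3, 2, 1, 2, 3, 2, 1, 2, 3, 2]))))))) (.node 263 (.node 254 (.node 249 (.node 247 (.node 246 (.leaf 27 25 [4, 3, 4, 1, 4, 3, 4, 1, 4, 3, 4, 1, 4, 3, 4, 1, 4, 3, 4, 1, 4, 3, 4, 1, 4, 3, 4, 1, 4, 3, 4, 1]) (.leaf 18 5 [4, 1, 1, 4, 1, 1, 4, 1, 1, 4, 1, 1, 4, 1, 1, 4, 1, 1, 4, 1, 1, 4, 1, 1, 4, 1, 1, 4, 1, 1, 4, 1, 1, 4, 1, 1])) (.node 248 (.leaf 22 30 [4, 4, 1, 1, 4, 4, 1, 1, 4, 4, 1, 1, 4, 4, 1, 1, 4, 4, 1, 1, 4, 4, 1, 1, 4, 4, 1, 1, 4, 4, 1, 1]) (.leaf 35 23 [8, 4, 3, 3, 2, 2, 2, 21, 20, 17, 15, 13, 13, 16, 16, 10, 10, 12, 5, 5, 8, 6, 7, 5]))) (.node 251 (.node 250 (.leaf 91 2 [3,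 2, 1, 1, 2, 2, 2, 1, 4, 4, 20, 15, 13, 9, 11, 10, 10, 5, 5, 8, 6, 7, 5, 8, 2, 3]) (.leaf 22 6 [4, 4, 1, 1, 4, 4, 1, 1, 4, 4, 1, 1, 4, 4, 1, 1, 4, 4, 1, 1, 4, 4, 1, 1, 4, 4, 1, 1, 4, 4, 1, 1])) (.node 252 (.leaf 25 12 [1, 2, 3, 4, 1, 2, 3, 4, 1, 2, 3, 4, 1, 2, 3, 4, 1, 2, 3, 4]) (.node 253 (.leaf 19 8 [2, 1, 2, 2, 1, 2, 2, 1, 2, 2, 1, 2, 2, 1, 2, 2, 1, 2, 2, 1, 2, 2, 1, 2, 2, 1, 2, 2, 1, 2, 2, 1, 2, 2, 1, 2]) (.leaf 14 14 [1, 2, 1, 2, 1, 2, 1, 2, 1, 2, 1, 2, 1, 2, 1, 2, 1, 2, 1, 2, 1, 2, 1, 2, 1, 2]))))) (.node 258 (.node 256 (.node 255 (.leaf 24 24 [1, 2, 3, 2, 1, 2, 3, 2, 1, 2, 3, 2, 1, 2, 3, 2, 1, 2, 3, 2, 1, 2, 3, 2, 1, 2, 3, 2, 1, 2, 3, 2]) (.leaf 29 22 [3, 4, 3, 2, 3, 4, 3, 2, 3,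 4, 3, 2, 3, 4, 3, 2, 3, 4, 3, 2, 3, 4, 3, 2])) (.node 257 (.leaf 18 20 [4, 1, 1, 4, 1, 1, 4, 1, 1, 4, 1, 1, 4, 1, 1, 4, 1, 1, 4, 1, 1, 4, 1, 1, 4, 1, 1, 4, 1, 1, 4, 1, 1, 4, 1, 1]) (.leaf 19 7 [2, 2, 1, 2, 2, 1, 2, 2, 1, 2, 2, 1, 2, 2, 1, 2, 2, 1, 2, 2, 1, 2, 2, 1, 2, 2, 1, 2, 2, 1, 2, 2, 1, 2, 2, 1]))) (.node 260 (.node 259 (.leaf 22 8 [1, 1, 4, 4, 1, 1, 4, 4, 1, 1, 4, 4, 1, 1, 4, 4, 1, 1, 4, 4, 1, 1, 4, 4, 1, 1, 4, 4, 1, 1, 4, 4]) (.leaf 25 5 [2, 3, 4, 1, 2, 3, 4, 1, 2, 3, 4, 1, 2, 3, 4, 1, 2, 3, 4, 1])) (.node 261 (.leaf 14 23 [2, 1, 2, 1, 2, 1, 2, 1, 2, 1, 2, 1, 2, 1, 2, 1, 2, 1, 2, 1, 2, 1, 2, 1, 2, 1]) (.node 262 (.leaf 24 9 [2, 3, 2, 1, 2, 3, 2, 1, 2, 3, 2, 1, 2, 3, 2, 1, 2, 3,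 2, 1, 2, 3, 2, 1, 2, 3, 2, 1, 2, 3, 2, 1]) (.leaf 26 13 [4, 3, 2, 1, 4, 3, 2, 1, 4, 3, 2, 1, 4, 3, 2, 1, 4, 3, 2, 1])))))) (.node 272 (.node 267 (.node 265 (.node 264 (.leaf 20 35 [2, 3, 3, 2, 3, 3, 2, 3, 3, 2, 3, 3, 2, 3, 3, 2, 3, 3, 2, 3, 3, 2, 3, 3, 2, 3, 3, 2, 3, 3, 2, 3, 3, 2, 3, 3]) (.leaf 21 1 [4, 4, 3, 4, 4, 3, 4, 4, 3, 4, 4, 3, 4, 4, 3, 4, 4, 3, 4, 4, 3, 4, 4, 3, 4, 4, 3, 4, 4, 3, 4, 4, 3, 4, 4, 3])) (.node 266 (.leaf 21 31 [4, 4, 3, 4, 4, 3, 4, 4, 3, 4, 4, 3, 4, 4, 3, 4, 4, 3, 4, 4, 3, 4, 4, 3, 4, 4, 3, 4, 4, 3, 4, 4, 3, 4, 4, 3]) (.leaf 22 23 [4, 1, 1, 4, 4, 1, 1, 4, 4, 1, 1, 4, 4, 1, 1, 4, 4, 1, 1, 4, 4, 1, 1, 4, 4, 1, 1, 4, 4, 1, 1, 4]))) (.node 269 (.node 268 (.leaf 27 31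 [4, 1, 4, 3, 4, 1, 4, 3, 4, 1, 4, 3, 4, 1, 4, 3, 4, 1, 4, 3, 4, 1, 4, 3, 4, 1, 4, 3, 4, 1, 4, 3]) (.leaf 16 4 [3, 2, 3, 2, 3, 2, 3, 2, 3, 2, 3, 2, 3, 2, 3, 2, 3, 2, 3, 2, 3, 2, 3, 2])) (.node 270 (.leaf 16 10 [3, 2, 3, 2, 3, 2, 3, 2, 3, 2, 3, 2, 3, 2, 3, 2, 3, 2, 3, 2, 3, 2, 3, 2]) (.node 271 (.leaf 28 3 [2, 3, 3, 2, 2, 3, 3, 2, 2, 3, 3, 2, 2, 3, 3, 2, 2, 3, 3, 2, 2, 3, 3, 2, 2, 3, 3, 2, 2, 3, 3, 2]) (.leaf 24 20 [1, 2, 3, 2, 1, 2, 3, 2, 1, 2, 3, 2, 1, 2, 3, 2, 1, 2, 3, 2, 1, 2, 3, 2, 1, 2, 3, 2, 1, 2, 3, 2]))))) (.node 276 (.node 274 (.node 273 (.leaf 23 6 [1, 4, 1, 2, 1, 4, 1, 2, 1, 4, 1, 2, 1, 4, 1, 2, 1, 4, 1, 2, 1, 4, 1, 2]) (.leaf 15 21 [4, 1, 4, 1, 4, 1, 4, 1, 4, 1, 4, 1, 4, 1,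 4, 1, 4, 1, 4, 1, 4, 1, 4, 1])) (.node 275 (.leaf 19 26 [2, 1, 2, 2, 1, 2, 2, 1, 2, 2, 1, 2, 2, 1, 2, 2, 1, 2, 2, 1, 2, 2, 1, 2, 2, 1, 2, 2, 1, 2, 2, 1, 2, 2, 1, 2]) (.leaf 24 27 [2, 1, 2, 3, 2, 1, 2, 3, 2, 1, 2, 3, 2, 1, 2, 3, 2, 1, 2, 3, 2, 1, 2, 3, 2, 1, 2, 3, 2, 1, 2, 3]))) (.node 278 (.node 277 (.leaf 26 9 [4, 3, 2, 1, 4, 3, 2, 1, 4, 3, 2, 1, 4, 3, 2, 1, 4, 3, 2, 1]) (.leaf 15 20 [1, 4, 1, 4, 1, 4, 1, 4, 1, 4, 1, 4, 1, 4, 1, 4, 1, 4, 1, 4, 1, 4, 1, 4])) (.node 279 (.leaf 21 30 [3, 4, 4, 3, 4, 4, 3, 4, 4, 3, 4, 4, 3, 4, 4, 3, 4, 4, 3, 4, 4, 3, 4, 4, 3, 4, 4, 3, 4, 4, 3, 4, 4, 3, 4, 4]) (.node 280 (.leaf 29 14 [3, 4, 3, 2, 3, 4, 3, 2, 3, 4, 3, 2, 3, 4, 3, 2, 3, 4, 3, 2, 3, 4, 3, 2])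 (.leaf 27 9 [4, 3, 4, 1, 4, 3, 4, 1, 4, 3, 4, 1, 4, 3, 4, 1, 4, 3, 4, 1, 4, 3, 4, 1, 4, 3, 4, 1, 4, 3, 4, 1]))))))))))

theorem b0 : allR (guardB 7 (blk fc sc rt.get Cfsg.Agent.Lib.Helper3.O73.INV isH)) 3 0 = true := by decide +kernel
theorem c0 : allR (guardB 11 (cblk fc nc cc 1792 351 79228162514264337593543950336 gens)) 4 0 = true := by decide +kernel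

theorem chkAll : ∀ j < 7, blk fc sc rt.get Cfsg.Agent.Lib.Helper3.O73.INV isH j = true :=
  guardB_spec (D := 3) b0 (by norm_num)

theorem clAll : ∀ jb < 11, cblk fc nc cc (256 * 7) 351 79228162514264337593543950336 gens jb = true :=
  guardB_spec (D := 4) c0 (by norm_num)

theorem card_eq : Nat.card (lgrp (vL Cfsg.Agent.Lib.Helper3.O73.ntl Cfsg.Agent.Lib.Helper3.O73.deg) gens) = 351 * Nat.card (lgrp (vL Cfsg.Agent.Lib.Helper3.O73.ntl Cfsg.Agent.Lib.Helper3.O73.deg) hl) :=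
  Cfsg.Agent.Lib.Helper3.O73.setup.level gens hl dl BR (by decide +kernel) (by decide +kernel) (by decide +kernel) (by decide +kernel)
    (by decide +kernel) rt (by decide +kernel) isH (fun l h => of_decide_eq_true h) fc sc nc cc 7 11 351 79228162514264337593543950336
    (by norm_num) (by norm_num) (by decide +kernel) (by decide) chkAll clAll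
    0 0 8 (by norm_num [Cfsg.Agent.Lib.Helper3.O73.deg]) (by norm_num [Cfsg.Agent.Lib.Helper3.O73.deg]) (by decide +kernel) (by decide +kernel)

theorem ub {M : Type*} [Group M] (w : ℕ → M) (h0 : w 0 = 1) (hinv : ∀ l, w (invL Cfsg.Agent.Lib.Helper3.O73.INV l) = (w l)⁻¹)
    (hBR : ∀ r ∈ BR, (r.map w).prod = 1)
    (hdlr : ∀ r ∈ dl.map (fun p => p.1 ++ [p.2]), (r.map w).prod = 1) (N : ℕ) (hN : Bd w hl N) :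
    Bd w gens (351 * N) :=
  level_bd w Cfsg.Agent.Lib.Helper3.O73.INV h0 hinv gens hl dl BR (by decide +kernel) hdlr hBR (by decide +kernel) (by decide +kernel)
    rt (by decide +kernel) isH (fun l h => of_decide_eq_true h) fc sc nc cc 7 11 351 79228162514264337593543950336
    (by norm_num) (by norm_num) (by decide +kernel) (by decide) chkAll clAll N hN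

end Cfsg.Agent.Lib.Helper3.O73.L1
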