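import Cfsg.Agent.Lib.Helper3.O73.L2D
import Cfsg.Agent.Lib.Helper3.O73.Net

set_option autoImplicit false
set_option maxRecDepth 100000

namespace Cfsg.Agent.Lib.Helper3.O73.L2

open Cfsg.Agent.Lib.Helper11 Cfsg.Agent.Lib.Helper3

set_option maxHeartbeats 0

noncomputable def fc (i : ℕ) : ℕ := (fc0_0 i)
noncomputable def sc (i : ℕ) : ℕ := (sc0_0 i)
noncomputable def nc (i : ℕ) : ℕ := (nc0_0 i)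
noncomputable def cc (i : ℕ) : ℕ := (cc0_0 i)

def isH (l : ℕ) : Bool := decide (l ∈ [9, 11])
def gens : List ℕ := [5, 7]
def hl : List ℕ := [9, 11]
def dl : List (List ℕ × ℕ) := [([5], 6), ([7], 8), ([6, 8, 5, 8, 5], 10), ([10], 9), ([6, 7, 7, 5, 7], 12), ([12], 11), ([11, 9, 9, 11, 9, 12], 14), ([14], 13), ([12, 9, 11, 11, 9, 9, 9], 16), ([16], 15), ([13], 18), ([18], 17), ([16, 13, 15, 15, 15], 20), ([20], 19), ([19, 17, 19], 21)]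
def BR : List (List ℕ) := [[], [6, 8, 5, 8, 5, 10], [6, 7, 7, 5, 7, 12], [11, 9, 9, 11, 9, 12, 14], [12, 9, 11, 11, 9, 9, 9, 16], [13, 18], [16, 13, 15, 15, 15, 20], [19, 17, 19, 21], [5, 5, 5, 5, 5], [6, 6, 6, 6, 6], [7, 7, 7, 7, 7, 7], [8, 8, 8, 8, 8, 8], [5, 7, 5, 7, 5, 7, 5, 7, 5, 7, 5, 7, 5, 7, 5, 7, 5, 7, 5, 7, 5, 7, 5, 7], [5, 8, 5, 8, 5, 8, 5, 8, 5, 8, 5, 8, 5, 8, 5, 8, 5, 8, 5, 8, 5, 8, 5, 8, 5, 8, 5, 8, 5, 8, 5, 8, 5, 8, 5, 8], [6, 8, 6, 8, 6, 8, 6, 8, 6, 8, 6, 8, 6, 8, 6, 8, 6, 8, 6, 8, 6, 8, 6, 8], [5, 5, 7, 5, 5, 7, 5, 5, 7, 5, 5, 7, 5, 5, 7, 5, 5, 7, 5, 5, 7, 5, 5, 7, 5, 5, 7, 5, 5, 7], [5, 5, 8, 5, 5, 8, 5, 5, 8, 5, 5, 8, 5, 5, 8, 5, 5, 8, 5, 5, 8, 5, 5, 8, 5, 5, 8, 5, 5, 8], [5, 8, 8, 5, 8, 8, 5, 8, 8,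 5, 8, 8, 5, 8, 8, 5, 8, 8, 5, 8, 8, 5, 8, 8, 5, 8, 8], [6, 6, 7, 6, 6, 7, 6, 6, 7, 6, 6, 7, 6, 6, 7, 6, 6, 7, 6, 6, 7, 6, 6, 7, 6, 6, 7, 6, 6, 7], [6, 7, 7, 6, 7, 7, 6, 7, 7, 6, 7, 7, 6, 7, 7, 6, 7, 7, 6, 7, 7, 6, 7, 7, 6, 7, 7], [5, 5, 5, 7, 5, 5, 5, 7, 5, 5, 5, 7, 5, 5, 5, 7, 5, 5, 5, 7, 5, 5, 5, 7, 5, 5, 5, 7, 5, 5, 5, 7, 5, 5, 5, 7, 5, 5, 5, 7], [5, 5, 5, 8, 5, 5, 5, 8, 5, 5, 5, 8, 5, 5, 5, 8, 5, 5, 5, 8, 5, 5, 5, 8, 5, 5, 5, 8, 5, 5, 5, 8, 5, 5, 5, 8, 5, 5, 5, 8], [5, 5, 7, 7, 5, 5, 7, 7, 5, 5, 7, 7, 5, 5, 7, 7, 5, 5, 7, 7, 5, 5, 7, 7], [5, 5, 8, 8, 5, 5, 8, 8, 5, 5, 8, 8, 5, 5, 8, 8, 5, 5, 8, 8, 5, 5, 8, 8, 5, 5, 8, 8, 5, 5, 8, 8], [5, 7, 6, 8, 5, 7, 6, 8, 5, 7, 6, 8, 5, 7, 6, 8, 5, 7, 6, 8, 5, 7, 6, 8, 5, 7, 6,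 8], [5, 8, 6, 7, 5, 8, 6, 7, 5, 8, 6, 7, 5, 8, 6, 7, 5, 8, 6, 7, 5, 8, 6, 7, 5, 8, 6, 7], [6, 6, 6, 7, 6, 6, 6, 7, 6, 6, 6, 7, 6, 6, 6, 7, 6, 6, 6, 7, 6, 6, 6, 7, 6, 6, 6, 7, 6, 6, 6, 7, 6, 6, 6, 7, 6, 6, 6, 7], [6, 6, 6, 8, 6, 6, 6, 8, 6, 6, 6, 8, 6, 6, 6, 8, 6, 6, 6, 8, 6, 6, 6, 8, 6, 6, 6, 8, 6, 6, 6, 8, 6, 6, 6, 8, 6, 6, 6, 8], [6, 6, 7, 7, 6, 6, 7, 7, 6, 6, 7, 7, 6, 6, 7, 7, 6, 6, 7, 7, 6, 6, 7, 7, 6, 6, 7, 7, 6, 6, 7, 7], [6, 6, 8, 8, 6, 6, 8, 8, 6, 6, 8, 8, 6, 6, 8, 8, 6, 6, 8, 8, 6, 6, 8, 8], [6, 7, 5, 7, 7, 7, 21, 17, 15, 13, 16, 16], [7, 5, 7, 7, 6, 7, 18, 16, 14, 15, 10, 10, 11, 11], [8, 5, 5, 8, 8, 6, 19, 18, 9, 9, 12], [8, 6, 7, 5, 8, 8, 19, 16, 13, 12, 9, 9], [7, 5, 7, 5, 5, 7, 6, 21, 19, 18, 16, 16, 10,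 12, 10, 11, 9], [6, 6, 8, 5, 7, 7, 6, 21, 17, 20, 16, 16, 13, 10, 10, 12, 9], [5, 7, 6, 7, 7, 5, 8, 17, 20, 17, 15, 13, 15, 9, 9, 11, 10, 10, 11], [5, 5, 7, 7, 5, 5, 7, 7, 20, 16, 16, 10, 10, 12, 9], [5, 5, 7, 7, 7, 5, 7, 6, 21, 17, 20, 17, 15, 13, 16, 10, 10, 12, 10], [8, 8, 5, 5, 8, 5, 5, 8, 21, 19, 15, 13, 13, 16, 16, 9, 9, 11, 10], [7, 5, 8, 5, 8, 6, 8, 6, 21, 18, 19, 16, 16, 10, 11], [7, 7, 5, 5, 7, 5, 5, 8, 20, 15, 13, 13, 16, 16, 10, 12, 10, 11], [6, 6, 8, 8, 5, 8, 5, 8, 21, 19, 18, 15, 14, 16, 14, 9, 9, 11, 10, 10], [8, 8, 6, 7, 7, 5, 8, 6, 6, 21, 18, 15, 15, 14, 9, 11, 9, 9, 12], [5, 8, 5, 5, 7, 6, 6, 7, 6, 21, 17, 20, 15, 14, 16, 14, 10, 11, 9, 11], [7, 6, 6, 7, 7, 7, 5, 5, 8, 19, 18, 15, 11, 10, 10, 10, 12],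 [7, 6, 8, 5, 5, 8, 8, 8, 6, 17, 20, 17, 16, 16, 9, 11, 10, 11, 9], [6, 6, 7, 7, 5, 8, 5, 7, 5, 19, 19, 16, 13, 11, 11, 10], [5, 7, 5, 5, 7, 5, 7, 5, 8, 20, 17, 15, 15, 13, 12], [6, 8, 8, 5, 7, 6, 8, 6, 6, 21, 20, 17, 16, 14, 16, 13, 11], [5, 7, 6, 8, 5, 8, 6, 7, 6, 21, 17, 20, 17, 15, 14, 16, 12], [7, 5, 5, 8, 5, 5, 8, 6, 7, 19, 15, 15, 14, 9, 11, 10, 12, 9], [8, 5, 7, 6, 7, 6, 6, 8, 6, 16, 16, 14, 10, 11, 9], [8, 8, 5, 7, 7, 5, 8, 5, 5, 17, 20, 15, 14, 10, 12, 10], [5, 7, 5, 8, 5, 5, 7, 7, 5, 21, 17, 17, 10, 11, 10], [8, 6, 6, 8, 5, 7, 6, 7, 6, 21, 18, 19, 16, 10, 11, 9, 11, 10], [7, 5, 5, 7, 5, 7, 5, 8, 6, 21, 20, 17, 15, 13, 13, 10, 10], [8, 5, 7, 5, 7, 6, 7, 7, 5, 21, 17, 20, 15, 9, 9, 11, 9], [8, 8, 6, 7, 5, 5,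 7, 7, 6, 6, 18, 19, 15, 14, 16, 10, 11, 11], [5, 8, 5, 8, 5, 5, 7, 7, 6, 8, 21, 17, 17, 15, 14, 16, 9, 11, 10, 11, 11], [6, 6, 7, 5, 5, 8, 8, 6, 8, 6, 17, 20, 17, 15, 13, 15, 14, 9, 9, 11], [6, 6, 7, 6, 7, 5, 7, 7, 6, 6, 21, 20, 17, 16, 16, 10, 10, 12, 10], [5, 7, 7, 7, 5, 8, 6, 7, 6, 6, 21, 20, 17, 16, 16], [7, 6, 8, 5, 7, 5, 5, 7, 6, 6, 21, 17, 20, 17, 15, 9, 11, 10, 10, 10], [6, 8, 6, 8, 5, 7, 7, 6, 8, 8, 21, 17, 15, 9, 11, 9, 9], [6, 6, 7, 7, 7, 6, 6, 7, 6, 6, 21, 17, 20, 17, 15, 13, 13, 9, 11, 9, 9], [6, 7, 5, 5, 7, 7, 6, 6, 8, 5, 21, 19, 18, 15, 14, 16, 9, 9, 11, 11], [5, 7, 6, 6, 7, 7, 6, 7, 5, 8, 21, 16, 14, 16, 16, 10, 11, 11], [7, 6, 7, 5, 5, 7, 6, 7, 6, 6, 21, 17, 17, 16, 16, 10, 10, 12], [7, 7, 5, 7, 7, 5,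 8, 8, 5, 8, 17, 20, 15, 11, 11, 10, 10], [6, 8, 6, 8, 6, 7, 7, 5, 5, 7, 20, 15, 14, 16, 14, 11, 10, 10, 10, 12], [8, 6, 6, 7, 7, 5, 7, 6, 7, 7, 17, 15, 13, 16, 11, 11, 10], [7, 7, 5, 7, 6, 7, 7, 5, 7, 7, 20, 17, 15, 14, 16, 14, 9, 11, 10, 10, 10], [6, 8, 8, 6, 7, 7, 5, 7, 7, 5, 17, 17, 16, 14, 16, 13, 10, 12, 10, 11], [5, 5, 8, 8, 5, 7, 6, 7, 7, 6, 21, 16, 11], [7, 6, 7, 7, 5, 7, 5, 5, 8, 8, 18, 16, 14, 16, 9, 11, 10, 12, 9], [7, 5, 5, 8, 8, 5, 7, 5, 7, 7, 21, 17, 20, 16, 14, 16, 13, 9, 11, 9, 9], [5, 8, 5, 8, 8, 5, 8, 8, 5, 5, 21, 17, 15, 11, 11]]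
def rt : RT := (.node 144 (.node 72 (.node 36 (.node 18 (.node 9 (.node 4 (.node 2 (.node 1 (.leaf 0 0 []) (.leaf 1 5 [10, 6, 8, 5, 8, 5])) (.node 3 (.leaf 8 2 [5, 5, 5, 5, 5]) (.leaf 2 5 [12, 6, 7, 7, 5, 7]))) (.node 6 (.node 5 (.leaf 1 2 [5, 8, 5, 10, 6, 8]) (.leaf 2 2 [7, 5, 7, 12, 6, 7])) (.node 7 (.leaf 10 3 [7, 7, 7, 7, 7, 7]) (.node 8 (.leaf 3 6 [14, 11, 9, 9, 11, 9, 12]) (.leaf 4 7 [16, 12, 9, 11, 11, 9, 9, 9]))))) (.node 13 (.node 11 (.node 10 (.leaf 5 1 [18, 13]) (.leaf 6 5 [20, 16, 13, 15, 15, 15])) (.node 12 (.leaf 7 3 [21, 19, 17, 19]) (.leaf 30 3 [7, 7, 7, 21, 17, 15, 13, 16, 16, 6, 7, 5]))) (.node 15 (.node 14 (.leaf 10 5 [7, 7, 7, 7, 7, 7]) (.leaf 31 3 [7, 6, 7, 18, 16, 14, 15, 10, 10, 11, 11, 7, 5, 7]))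 (.node 16 (.leaf 10 2 [7, 7, 7, 7, 7, 7]) (.node 17 (.leaf 32 2 [5, 8, 8, 6, 19, 18, 9, 9, 12, 8, 5]) (.leaf 8 1 [5, 5, 5, 5, 5])))))) (.node 27 (.node 22 (.node 20 (.node 19 (.leaf 33 2 [7, 5, 8, 8, 19, 16, 13, 12, 9, 9, 8, 6]) (.leaf 10 1 [7, 7, 7, 7, 7, 7])) (.node 21 (.leaf 34 3 [5, 5, 7, 6, 21, 19, 18, 16, 16, 10, 12, 10, 11, 9, 7, 5, 7]) (.leaf 8 4 [5, 5, 5, 5, 5]))) (.node 24 (.node 23 (.leaf 35 3 [5, 7, 7, 6, 21, 17, 20, 16, 16, 13, 10, 10, 12, 9, 6, 6, 8]) (.leaf 8 3 [5, 5, 5, 5, 5])) (.node 25 (.leaf 36 3 [7, 7, 5, 8, 17, 20, 17, 15, 13, 15, 9, 9, 11, 10, 10, 11, 5, 7, 6]) (.node 26 (.leaf 10 4 [7, 7, 7, 7, 7, 7]) (.leaf 37 4 [5, 5, 7, 7, 20, 16, 16, 10, 10, 12, 9, 5, 5, 7, 7]))))) (.node 31 (.node 29 (.node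 28 (.leaf 38 4 [7, 5, 7, 6, 21, 17, 20, 17, 15, 13, 16, 10, 10, 12, 10, 5, 5, 7, 7]) (.leaf 39 3 [5, 8, 5, 5, 8, 21, 19, 15, 13, 13, 16, 16, 9, 9, 11, 10, 8, 8, 5])) (.node 30 (.leaf 40 3 [5, 8, 6, 8, 6, 21, 18, 19, 16, 16, 10, 11, 7, 5, 8]) (.leaf 41 3 [5, 7, 5, 5, 8, 20, 15, 13, 13, 16, 16, 10, 12, 10, 11, 7, 7, 5]))) (.node 33 (.node 32 (.leaf 42 4 [5, 8, 5, 8, 21, 19, 18, 15, 14, 16, 14, 9, 9, 11, 10, 10, 6, 6, 8, 8]) (.leaf 43 4 [7, 5, 8, 6, 6, 21, 18, 15, 15, 14, 9, 11, 9, 9, 12, 8, 8, 6, 7])) (.node 34 (.leaf 44 4 [7, 6, 6, 7, 6, 21, 17, 20, 15, 14, 16, 14, 10, 11, 9, 11, 5, 8, 5, 5]) (.node 35 (.leaf 45 4 [7, 7, 5, 5, 8, 19, 18, 15, 11, 10, 10, 10, 12, 7, 6, 6, 7]) (.leaf 46 4 [5, 8, 8, 8, 6, 17, 20, 17, 16,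 16, 9, 11, 10, 11, 9, 7, 6, 8, 5]))))))) (.node 54 (.node 45 (.node 40 (.node 38 (.node 37 (.leaf 47 4 [5, 8, 5, 7, 5, 19, 19, 16, 13, 11, 11, 10, 6, 6, 7, 7]) (.leaf 48 4 [7, 5, 7, 5, 8, 20, 17, 15, 15, 13, 12, 5, 7, 5, 5])) (.node 39 (.leaf 49 4 [7, 6, 8, 6, 6, 21, 20, 17, 16, 14, 16, 13, 11, 6, 8, 8, 5]) (.leaf 50 4 [5, 8, 6, 7, 6, 21, 17, 20, 17, 15, 14, 16, 12, 5, 7, 6, 8]))) (.node 42 (.node 41 (.leaf 51 4 [5, 5, 8, 6, 7, 19, 15, 15, 14, 9, 11, 10, 12, 9, 7, 5, 5, 8]) (.leaf 52 4 [7, 6, 6, 8, 6, 16, 16, 14, 10, 11, 9, 8, 5, 7, 6])) (.node 43 (.leaf 53 4 [7, 5, 8, 5, 5, 17, 20, 15, 14, 10, 12, 10, 8, 8, 5, 7]) (.node 44 (.leaf 54 4 [5, 5, 7, 7, 5, 21, 17, 17, 10, 11, 10, 5, 7, 5, 8]) (.leaf 55 4 [5, 7, 6, 7, 6,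 21, 18, 19, 16, 10, 11, 9, 11, 10, 8, 6, 6, 8]))))) (.node 49 (.node 47 (.node 46 (.leaf 56 4 [5, 7, 5, 8, 6, 21, 20, 17, 15, 13, 13, 10, 10, 7, 5, 5, 7]) (.leaf 57 4 [7, 6, 7, 7, 5, 21, 17, 20, 15, 9, 9, 11, 9, 8, 5, 7, 5])) (.node 48 (.leaf 58 4 [5, 5, 7, 7, 6, 6, 18, 19, 15, 14, 16, 10, 11, 11, 8, 8, 6, 7]) (.leaf 59 5 [5, 7, 7, 6, 8, 21, 17, 17, 15, 14, 16, 9, 11, 10, 11, 11, 5, 8, 5, 8, 5]))) (.node 51 (.node 50 (.leaf 22 22 [7, 7, 5, 5, 7, 7, 5, 5, 7, 7, 5, 5, 7, 7, 5, 5, 7, 7, 5, 5, 7, 7, 5, 5]) (.leaf 60 4 [5, 8, 8, 6, 8, 6, 17, 20, 17, 15, 13, 15, 14, 9, 9, 11, 6, 6, 7, 5])) (.node 52 (.leaf 61 4 [7, 5, 7, 7, 6, 6, 21, 20, 17, 16, 16, 10, 10, 12, 10, 6, 6, 7, 6]) (.node 53 (.leaf 62 4 [5, 8, 6, 7, 6, 6, 21,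 20, 17, 16, 16, 5, 7, 7, 7]) (.leaf 63 4 [7, 5, 5, 7, 6, 6, 21, 17, 20, 17, 15, 9, 11, 10, 10, 10, 7, 6, 8, 5])))))) (.node 63 (.node 58 (.node 56 (.node 55 (.leaf 64 5 [7, 7, 6, 8, 8, 21, 17, 15, 9, 11, 9, 9, 6, 8, 6, 8, 5]) (.leaf 65 4 [7, 6, 6, 7, 6, 6, 21, 17, 20, 17, 15, 13, 13, 9, 11, 9, 9, 6, 6, 7, 7])) (.node 57 (.leaf 22 7 [7, 5, 5, 7, 7, 5, 5, 7, 7, 5, 5, 7, 7, 5, 5, 7, 7, 5, 5, 7, 7, 5, 5, 7]) (.leaf 66 5 [7, 6, 6, 8, 5, 21, 19, 18, 15, 14, 16, 9, 9, 11, 11, 6, 7, 5, 5, 7]))) (.node 60 (.node 59 (.leaf 67 5 [7, 6, 7, 5, 8, 21, 16, 14, 16, 16, 10, 11, 11, 5, 7, 6, 6, 7]) (.leaf 68 4 [5, 7, 6, 7, 6, 6, 21, 17, 17, 16, 16, 10, 10, 12, 7, 6, 7, 5])) (.node 61 (.leaf 69 4 [7, 5, 8, 8, 5, 8, 17, 20, 15, 11, 11,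 10, 10, 7, 7, 5, 7]) (.node 62 (.leaf 70 5 [7, 7, 5, 5, 7, 20, 15, 14, 16, 14, 11, 10, 10, 10, 12, 6, 8, 6, 8, 6]) (.leaf 71 5 [5, 7, 6, 7, 7, 17, 15, 13, 16, 11, 11, 10, 8, 6, 6, 7, 7]))))) (.node 67 (.node 65 (.node 64 (.leaf 72 5 [7, 7, 5, 7, 7, 20, 17, 15, 14, 16, 14, 9, 11, 10, 10, 10, 7, 7, 5, 7, 6]) (.leaf 73 5 [7, 5, 7, 7, 5, 17, 17, 16, 14, 16, 13, 10, 12, 10, 11, 6, 8, 8, 6, 7])) (.node 66 (.leaf 19 15 [6, 7, 7, 6, 7, 7, 6, 7, 7, 6, 7, 7, 6, 7, 7, 6, 7, 7, 6, 7, 7, 6, 7, 7, 6, 7, 7]) (.leaf 74 5 [7, 6, 7, 7, 6, 21, 16, 11, 5, 5, 8, 8, 5]))) (.node 69 (.node 68 (.leaf 75 5 [7, 5, 5, 8, 8, 18, 16, 14, 16, 9, 11, 10, 12, 9, 7, 6, 7, 7, 5]) (.leaf 32 6 [19, 18, 9, 9, 12, 8, 5, 5, 8, 8, 6])) (.node 70 (.leaf 57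 12 [15, 9, 9, 11, 9, 8, 5, 7, 5, 7, 6, 7, 7, 5, 21, 17, 20]) (.node 71 (.leaf 42 18 [10, 10, 6, 6, 8, 8, 5, 8, 5, 8, 21, 19, 18, 15, 14, 16, 14, 9, 9, 11]) (.leaf 48 1 [7, 5, 5, 7, 5, 7, 5, 8, 20, 17, 15, 15, 13, 12, 5])))))))) (.node 108 (.node 90 (.node 81 (.node 76 (.node 74 (.node 73 (.leaf 50 2 [6, 8, 5, 8, 6, 7, 6, 21, 17, 20, 17, 15, 14, 16, 12, 5, 7]) (.leaf 74 3 [8, 5, 7, 6, 7, 7, 6, 21, 16, 11, 5, 5, 8])) (.node 75 (.leaf 12 13 [7, 5, 7, 5, 7, 5, 7, 5, 7, 5, 7, 5, 7, 5, 7, 5, 7, 5, 7, 5, 7, 5, 7, 5]) (.leaf 29 13 [6, 8, 8, 6, 6, 8, 8, 6, 6, 8, 8, 6, 6, 8, 8, 6, 6, 8, 8, 6, 6, 8, 8, 6]))) (.node 78 (.node 77 (.leaf 27 33 [6, 6, 8, 6, 6, 6, 8, 6, 6, 6, 8, 6, 6, 6, 8, 6, 6, 6, 8, 6, 6, 6, 8, 6, 6, 6, 8, 6, 6,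 6, 8, 6, 6, 6, 8, 6, 6, 6, 8, 6]) (.leaf 9 3 [6, 6, 6, 6, 6])) (.node 79 (.leaf 76 5 [5, 7, 5, 7, 7, 21, 17, 20, 16, 14, 16, 13, 9, 11, 9, 9, 7, 5, 5, 8, 8]) (.node 80 (.leaf 74 10 [21, 16, 11, 5, 5, 8, 8, 5, 7, 6, 7, 7, 6]) (.leaf 77 5 [5, 8, 8, 5, 5, 21, 17, 15, 11, 11, 5, 8, 5, 8, 8]))))) (.node 85 (.node 83 (.node 82 (.leaf 77 12 [15, 11, 11, 5, 8, 5, 8, 8, 5, 8, 8, 5, 5, 21, 17]) (.leaf 16 26 [8, 5, 5, 8, 5, 5, 8, 5, 5, 8, 5, 5, 8, 5, 5, 8, 5, 5, 8, 5, 5, 8, 5, 5, 8, 5, 5, 8, 5, 5])) (.node 84 (.leaf 23 31 [8, 5, 5, 8, 8, 5, 5, 8, 8, 5, 5, 8, 8, 5, 5, 8, 8, 5, 5, 8, 8, 5, 5, 8, 8, 5, 5, 8, 8, 5, 5, 8]) (.leaf 22 5 [5, 7, 7, 5, 5, 7, 7, 5, 5, 7, 7, 5, 5, 7, 7, 5, 5, 7, 7, 5, 5, 7, 7, 5]))) (.node 87 (.node 86 (.leaf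 57 16 [9, 8, 5, 7, 5, 7, 6, 7, 7, 5, 21, 17, 20, 15, 9, 9, 11]) (.leaf 69 16 [10, 7, 7, 5, 7, 7, 5, 8, 8, 5, 8, 17, 20, 15, 11, 11, 10])) (.node 88 (.leaf 22 23 [7, 5, 5, 7, 7, 5, 5, 7, 7, 5, 5, 7, 7, 5, 5, 7, 7, 5, 5, 7, 7, 5, 5, 7]) (.node 89 (.leaf 11 1 [8, 8, 8, 8, 8, 8]) (.leaf 43 16 [9, 9, 12, 8, 8, 6, 7, 7, 5, 8, 6, 6, 21, 18, 15, 15, 14, 9, 11])))))) (.node 99 (.node 94 (.node 92 (.node 91 (.leaf 65 1 [6, 7, 7, 7, 6, 6, 7, 6, 6, 21, 17, 20, 17, 15, 13, 13, 9, 11, 9, 9, 6]) (.leaf 76 0 [7, 5, 5, 8, 8, 5, 7, 5, 7, 7, 21, 17, 20, 16, 14, 16, 13, 9, 11, 9, 9])) (.node 93 (.leaf 53 14 [12, 10, 8, 8, 5, 7, 7, 5, 8, 5, 5, 17, 20, 15, 14, 10]) (.leaf 64 11 [17, 15, 9, 11, 9, 9, 6, 8, 6, 8, 5, 7, 7, 6, 8, 8, 21]))) (.node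 96 (.node 95 (.leaf 45 16 [12, 7, 6, 6, 7, 7, 7, 5, 5, 8, 19, 18, 15, 11, 10, 10, 10]) (.leaf 63 19 [10, 7, 6, 8, 5, 7, 5, 5, 7, 6, 6, 21, 17, 20, 17, 15, 9, 11, 10, 10])) (.node 97 (.leaf 25 22 [6, 7, 5, 8, 6, 7, 5, 8, 6, 7, 5, 8, 6, 7, 5, 8, 6, 7, 5, 8, 6, 7, 5, 8, 6, 7, 5, 8]) (.node 98 (.leaf 2 3 [5, 7, 12, 6, 7, 7]) (.leaf 5 0 [13, 18]))))) (.node 103 (.node 101 (.node 100 (.leaf 25 16 [5, 8, 6, 7, 5, 8, 6, 7, 5, 8, 6, 7, 5, 8, 6, 7, 5, 8, 6, 7, 5, 8, 6, 7, 5, 8, 6, 7]) (.leaf 28 19 [7, 6, 6, 7, 7, 6, 6, 7, 7, 6, 6, 7, 7, 6, 6, 7, 7, 6, 6, 7, 7, 6, 6, 7, 7, 6, 6, 7, 7, 6, 6, 7])) (.node 102 (.leaf 18 25 [6, 7, 6, 6, 7, 6, 6, 7, 6, 6, 7, 6, 6, 7, 6, 6, 7, 6, 6, 7, 6, 6, 7, 6, 6, 7, 6, 6, 7, 6]) (.leaf 28 28 [6, 6,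 7, 7, 6, 6, 7, 7, 6, 6, 7, 7, 6, 6, 7, 7, 6, 6, 7, 7, 6, 6, 7, 7, 6, 6, 7, 7, 6, 6, 7, 7]))) (.node 105 (.node 104 (.leaf 17 1 [8, 8, 5, 8, 8, 5, 8, 8, 5, 8, 8, 5, 8, 8, 5, 8, 8, 5, 8, 8, 5, 8, 8, 5, 8, 8, 5]) (.leaf 24 13 [7, 6, 8, 5, 7, 6, 8, 5, 7, 6, 8, 5, 7, 6, 8, 5, 7, 6, 8, 5, 7, 6, 8, 5, 7, 6, 8, 5])) (.node 106 (.leaf 56 14 [13, 10, 10, 7, 5, 5, 7, 5, 7, 5, 8, 6, 21, 20, 17, 15, 13]) (.node 107 (.leaf 65 18 [11, 9, 9, 6, 6, 7, 7, 7, 6, 6, 7, 6, 6, 21, 17, 20, 17, 15, 13, 13, 9]) (.leaf 3 5 [12, 14, 11, 9, 9, 11, 9]))))))) (.node 126 (.node 117 (.node 112 (.node 110 (.node 109 (.leaf 52 9 [16, 16, 14, 10, 11, 9, 8, 5, 7, 6, 7, 6, 6, 8, 6]) (.leaf 2 4 [7, 12, 6, 7, 7, 5])) (.node 111 (.leaf 19 3 [6, 7, 7, 6, 7,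 7, 6, 7, 7, 6, 7, 7, 6, 7, 7, 6, 7, 7, 6, 7, 7, 6, 7, 7, 6, 7, 7]) (.leaf 33 6 [19, 16, 13, 12, 9, 9, 8, 6, 7, 5, 8, 8]))) (.node 114 (.node 113 (.leaf 48 12 [15, 13, 12, 5, 7, 5, 5, 7, 5, 7, 5, 8, 20, 17, 15]) (.leaf 31 9 [15, 10, 10, 11, 11, 7, 5, 7, 7, 6, 7, 18, 16, 14])) (.node 115 (.leaf 54 11 [17, 10, 11, 10, 5, 7, 5, 8, 5, 5, 7, 7, 5, 21, 17]) (.node 116 (.leaf 70 0 [6, 8, 6, 8, 6, 7, 7, 5, 5, 7, 20, 15, 14, 16, 14, 11, 10, 10, 10, 12]) (.leaf 4 3 [11, 9, 9, 9, 16, 12, 9, 11]))))) (.node 121 (.node 119 (.node 118 (.leaf 71 13 [16, 11, 11, 10, 8, 6, 6, 7, 7, 5, 7, 6, 7, 7, 17, 15, 13]) (.leaf 3 4 [9, 12, 14, 11, 9, 9, 11])) (.node 120 (.leaf 11 4 [8, 8, 8, 8, 8, 8]) (.leaf 64 12 [15, 9, 11, 9, 9, 6, 8, 6, 8, 5,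 7, 7, 6, 8, 8, 21, 17]))) (.node 123 (.node 122 (.leaf 2 1 [7, 7, 5, 7, 12, 6]) (.leaf 19 1 [7, 7, 6, 7, 7, 6, 7, 7, 6, 7, 7, 6, 7, 7, 6, 7, 7, 6, 7, 7, 6, 7, 7, 6, 7, 7, 6])) (.node 124 (.leaf 29 1 [6, 8, 8, 6, 6, 8, 8, 6, 6, 8, 8, 6, 6, 8, 8, 6, 6, 8, 8, 6, 6, 8, 8, 6]) (.node 125 (.leaf 29 4 [6, 6, 8, 8, 6, 6, 8, 8, 6, 6, 8, 8, 6, 6, 8, 8, 6, 6, 8, 8, 6, 6, 8, 8]) (.leaf 64 4 [5, 7, 7, 6, 8, 8, 21, 17, 15, 9, 11, 9, 9, 6, 8, 6, 8])))))) (.node 135 (.node 130 (.node 128 (.node 127 (.leaf 67 10 [21, 16, 14, 16, 16, 10, 11, 11, 5, 7, 6, 6, 7, 7, 6, 7, 5, 8]) (.leaf 77 10 [21, 17, 15, 11, 11, 5, 8, 5, 8, 8, 5, 8, 8, 5, 5])) (.node 129 (.leaf 7 0 [19, 17, 19, 21]) (.leaf 49 13 [14, 16, 13, 11, 6, 8, 8, 5, 7, 6, 8, 6, 6,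 21, 20, 17, 16]))) (.node 132 (.node 131 (.leaf 61 17 [12, 10, 6, 6, 7, 6, 7, 5, 7, 7, 6, 6, 21, 20, 17, 16, 16, 10, 10]) (.leaf 69 10 [17, 20, 15, 11, 11, 10, 10, 7, 7, 5, 7, 7, 5, 8, 8, 5, 8])) (.node 133 (.leaf 57 9 [21, 17, 20, 15, 9, 9, 11, 9, 8, 5, 7, 5, 7, 6, 7, 7, 5]) (.node 134 (.leaf 62 11 [20, 17, 16, 16, 5, 7, 7, 7, 5, 8, 6, 7, 6, 6, 21]) (.leaf 47 9 [19, 19, 16, 13, 11, 11, 10, 6, 6, 7, 7, 5, 8, 5, 7, 5]))))) (.node 139 (.node 137 (.node 136 (.leaf 7 2 [19, 21, 19, 17]) (.leaf 77 11 [17, 15, 11, 11, 5, 8, 5, 8, 8, 5, 8, 8, 5, 5, 21])) (.node 138 (.leaf 61 18 [10, 6, 6, 7, 6, 7, 5, 7, 7, 6, 6, 21, 20, 17, 16, 16, 10, 10, 12]) (.leaf 9 2 [6, 6, 6, 6, 6]))) (.node 141 (.node 140 (.leaf 64 15 [9, 9, 6, 8, 6,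 8, 5, 7, 7, 6, 8, 8, 21, 17, 15, 9, 11]) (.leaf 72 15 [14, 9, 11, 10, 10, 10, 7, 7, 5, 7, 6, 7, 7, 5, 7, 7, 20, 17, 15, 14, 16])) (.node 142 (.leaf 41 8 [20, 15, 13, 13, 16, 16, 10, 12, 10, 11, 7, 7, 5, 5, 7, 5, 5, 8]) (.node 143 (.leaf 64 10 [21, 17, 15, 9, 11, 9, 9, 6, 8, 6, 8, 5, 7, 7, 6, 8, 8]) (.leaf 77 14 [11, 5, 8, 5, 8, 8, 5, 8, 8, 5, 5, 21, 17, 15, 11]))))))))) (.node 216 (.node 180 (.node 162 (.node 153 (.node 148 (.node 146 (.node 145 (.leaf 14 12 [6, 8, 6, 8, 6, 8, 6, 8, 6, 8, 6, 8, 6, 8, 6, 8, 6, 8, 6, 8, 6, 8, 6, 8]) (.leaf 17 12 [5, 8, 8, 5, 8, 8, 5, 8, 8, 5, 8, 8, 5, 8, 8, 5, 8, 8, 5, 8, 8, 5, 8, 8, 5, 8, 8])) (.node 147 (.leaf 12 8 [5, 7, 5, 7, 5, 7, 5, 7, 5, 7, 5, 7, 5, 7, 5, 7, 5, 7, 5, 7, 5, 7, 5,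 7]) (.leaf 24 20 [5, 7, 6, 8, 5, 7, 6, 8, 5, 7, 6, 8, 5, 7, 6, 8, 5, 7, 6, 8, 5, 7, 6, 8, 5, 7, 6, 8]))) (.node 150 (.node 149 (.leaf 47 10 [19, 16, 13, 11, 11, 10, 6, 6, 7, 7, 5, 8, 5, 7, 5, 19]) (.leaf 28 2 [7, 7, 6, 6, 7, 7, 6, 6, 7, 7, 6, 6, 7, 7, 6, 6, 7, 7, 6, 6, 7, 7, 6, 6, 7, 7, 6, 6, 7, 7, 6, 6])) (.node 151 (.leaf 16 11 [8, 5, 5, 8, 5, 5, 8, 5, 5, 8, 5, 5, 8, 5, 5, 8, 5, 5, 8, 5, 5, 8, 5, 5, 8, 5, 5, 8, 5, 5]) (.node 152 (.leaf 23 10 [8, 8, 5, 5, 8, 8, 5, 5, 8, 8, 5, 5, 8, 8, 5, 5, 8, 8, 5, 5, 8, 8, 5, 5, 8, 8, 5, 5, 8, 8, 5, 5]) (.leaf 53 12 [14, 10, 12, 10, 8, 8, 5, 7, 7, 5, 8, 5, 5, 17, 20, 15]))))) (.node 157 (.node 155 (.node 154 (.leaf 57 0 [8, 5, 7, 5, 7, 6, 7, 7, 5, 21, 17, 20, 15, 9, 9, 11, 9]) (.leaf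 51 12 [14, 9, 11, 10, 12, 9, 7, 5, 5, 8, 5, 5, 8, 6, 7, 19, 15, 15])) (.node 156 (.leaf 57 11 [20, 15, 9, 9, 11, 9, 8, 5, 7, 5, 7, 6, 7, 7, 5, 21, 17]) (.leaf 32 7 [18, 9, 9, 12, 8, 5, 5, 8, 8, 6, 19]))) (.node 159 (.node 158 (.leaf 39 11 [13, 13, 16, 16, 9, 9, 11, 10, 8, 8, 5, 5, 8, 5, 5, 8, 21, 19, 15]) (.leaf 36 9 [17, 15, 13, 15, 9, 9, 11, 10, 10, 11, 5, 7, 6, 7, 7, 5, 8, 17, 20])) (.node 160 (.leaf 3 3 [11, 9, 12, 14, 11, 9, 9]) (.node 161 (.leaf 30 2 [5, 7, 7, 7, 21, 17, 15, 13, 16, 16, 6, 7]) (.leaf 65 16 [13, 9, 11, 9, 9, 6, 6, 7, 7, 7, 6, 6, 7, 6, 6, 21, 17, 20, 17, 15, 13])))))) (.node 171 (.node 166 (.node 164 (.node 163 (.leaf 32 8 [9, 9, 12, 8, 5, 5, 8, 8, 6, 19, 18]) (.leaf 45 11 [15, 11, 10, 10, 10, 12,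 7, 6, 6, 7, 7, 7, 5, 5, 8, 19, 18])) (.node 165 (.leaf 66 19 [11, 6, 7, 5, 5, 7, 7, 6, 6, 8, 5, 21, 19, 18, 15, 14, 16, 9, 9, 11]) (.leaf 34 16 [9, 7, 5, 7, 5, 5, 7, 6, 21, 19, 18, 16, 16, 10, 12, 10, 11]))) (.node 168 (.node 167 (.leaf 74 11 [16, 11, 5, 5, 8, 8, 5, 7, 6, 7, 7, 6, 21]) (.leaf 64 6 [7, 6, 8, 8, 21, 17, 15, 9, 11, 9, 9, 6, 8, 6, 8, 5, 7])) (.node 169 (.leaf 30 10 [16, 16, 6, 7, 5, 7, 7, 7, 21, 17, 15, 13]) (.node 170 (.leaf 55 17 [10, 8, 6, 6, 8, 5, 7, 6, 7, 6, 21, 18, 19, 16, 10, 11, 9, 11]) (.leaf 48 2 [5, 5, 7, 5, 7, 5, 8, 20, 17, 15, 15, 13, 12, 5, 7]))))) (.node 175 (.node 173 (.node 172 (.leaf 55 2 [6, 8, 5, 7, 6, 7, 6, 21, 18, 19, 16, 10, 11, 9, 11, 10, 8, 6]) (.leaf 62 7 [7, 6, 6, 21, 20, 17, 16,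 16, 5, 7, 7, 7, 5, 8, 6])) (.node 174 (.leaf 7 1 [17, 19, 21, 19]) (.leaf 40 9 [18, 19, 16, 16, 10, 11, 7, 5, 8, 5, 8, 6, 8, 6, 21]))) (.node 177 (.node 176 (.leaf 56 12 [15, 13, 13, 10, 10, 7, 5, 5, 7, 5, 7, 5, 8, 6, 21, 20, 17]) (.leaf 35 7 [21, 17, 20, 16, 16, 13, 10, 10, 12, 9, 6, 6, 8, 5, 7, 7, 6])) (.node 178 (.leaf 44 19 [11, 5, 8, 5, 5, 7, 6, 6, 7, 6, 21, 17, 20, 15, 14, 16, 14, 10, 11, 9]) (.node 179 (.leaf 53 2 [5, 7, 7, 5, 8, 5, 5, 17, 20, 15, 14, 10, 12, 10, 8, 8]) (.leaf 40 12 [16, 10, 11, 7, 5, 8, 5, 8, 6, 8, 6, 21, 18, 19, 16]))))))) (.node 198 (.node 189 (.node 184 (.node 182 (.node 181 (.leaf 54 13 [11, 10, 5, 7, 5, 8, 5, 5, 7, 7, 5, 21, 17, 17, 10]) (.leaf 59 14 [14, 16, 9, 11, 10, 11, 11, 5, 8, 5,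 8, 5, 5, 7, 7, 6, 8, 21, 17, 17, 15])) (.node 183 (.leaf 39 4 [8, 5, 5, 8, 21, 19, 15, 13, 13, 16, 16, 9, 9, 11, 10, 8, 8, 5, 5]) (.leaf 64 3 [8, 5, 7, 7, 6, 8, 8, 21, 17, 15, 9, 11, 9, 9, 6, 8, 6]))) (.node 186 (.node 185 (.leaf 76 12 [20, 16, 14, 16, 13, 9, 11, 9, 9, 7, 5, 5, 8, 8, 5, 7, 5, 7, 7, 21, 17]) (.leaf 37 8 [20, 16, 16, 10, 10, 12, 9, 5, 5, 7, 7, 5, 5, 7, 7])) (.node 187 (.leaf 3 0 [11, 9, 9, 11, 9, 12, 14]) (.node 188 (.leaf 47 5 [8, 5, 7, 5, 19, 19, 16, 13, 11, 11, 10, 6, 6, 7, 7, 5]) (.leaf 54 10 [17, 17, 10, 11, 10, 5, 7, 5, 8, 5, 5, 7, 7, 5, 21]))))) (.node 193 (.node 191 (.node 190 (.leaf 12 20 [5, 7, 5, 7, 5, 7, 5, 7, 5, 7, 5, 7, 5, 7, 5, 7, 5, 7, 5, 7, 5, 7, 5, 7]) (.leaf 68 10 [21, 17, 17, 16, 16,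 10, 10, 12, 7, 6, 7, 5, 5, 7, 6, 7, 6, 6])) (.node 192 (.leaf 23 6 [8, 8, 5, 5, 8, 8, 5, 5, 8, 8, 5, 5, 8, 8, 5, 5, 8, 8, 5, 5, 8, 8, 5, 5, 8, 8, 5, 5, 8, 8, 5, 5]) (.leaf 77 3 [8, 8, 5, 8, 8, 5, 5, 21, 17, 15, 11, 11, 5, 8, 5]))) (.node 195 (.node 194 (.leaf 55 16 [11, 10, 8, 6, 6, 8, 5, 7, 6, 7, 6, 21, 18, 19, 16, 10, 11, 9]) (.leaf 57 10 [17, 20, 15, 9, 9, 11, 9, 8, 5, 7, 5, 7, 6, 7, 7, 5, 21])) (.node 196 (.leaf 62 14 [16, 5, 7, 7, 7, 5, 8, 6, 7, 6, 6, 21, 20, 17, 16]) (.node 197 (.leaf 68 17 [12, 7, 6, 7, 5, 5, 7, 6, 7, 6, 6, 21, 17, 17, 16, 16, 10, 10]) (.leaf 2 0 [6, 7, 7, 5, 7, 12])))))) (.node 207 (.node 202 (.node 200 (.node 199 (.leaf 34 14 [10, 11, 9, 7, 5, 7, 5, 5, 7, 6, 21, 19, 18, 16, 16, 10, 12]) (.leaf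 54 9 [21, 17, 17, 10, 11, 10, 5, 7, 5, 8, 5, 5, 7, 7, 5])) (.node 201 (.leaf 64 2 [6, 8, 5, 7, 7, 6, 8, 8, 21, 17, 15, 9, 11, 9, 9, 6, 8]) (.leaf 38 13 [13, 16, 10, 10, 12, 10, 5, 5, 7, 7, 7, 5, 7, 6, 21, 17, 20, 17, 15]))) (.node 204 (.node 203 (.leaf 15 9 [5, 5, 7, 5, 5, 7, 5, 5, 7, 5, 5, 7, 5, 5, 7, 5, 5, 7, 5, 5, 7, 5, 5, 7, 5, 5, 7, 5, 5, 7]) (.leaf 71 7 [6, 7, 7, 17, 15, 13, 16, 11, 11, 10, 8, 6, 6, 7, 7, 5, 7])) (.node 205 (.leaf 31 6 [18, 16, 14, 15, 10, 10, 11, 11, 7, 5, 7, 7, 6, 7]) (.node 206 (.leaf 34 7 [21, 19, 18, 16, 16, 10, 12, 10, 11, 9, 7, 5, 7, 5, 5, 7, 6]) (.leaf 37 14 [9, 5, 5, 7, 7, 5, 5, 7, 7, 20, 16, 16, 10, 10, 12]))))) (.node 211 (.node 209 (.node 208 (.leaf 49 11 [17, 16, 14, 16, 13, 11, 6,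 8, 8, 5, 7, 6, 8, 6, 6, 21, 20]) (.leaf 49 9 [21, 20, 17, 16, 14, 16, 13, 11, 6, 8, 8, 5, 7, 6, 8, 6, 6])) (.node 210 (.leaf 61 6 [7, 7, 6, 6, 21, 20, 17, 16, 16, 10, 10, 12, 10, 6, 6, 7, 6, 7, 5]) (.leaf 58 10 [18, 19, 15, 14, 16, 10, 11, 11, 8, 8, 6, 7, 5, 5, 7, 7, 6, 6]))) (.node 213 (.node 212 (.leaf 17 26 [8, 5, 8, 8, 5, 8, 8, 5, 8, 8, 5, 8, 8, 5, 8, 8, 5, 8, 8, 5, 8, 8, 5, 8, 8, 5, 8]) (.leaf 22 20 [5, 5, 7, 7, 5, 5, 7, 7, 5, 5, 7, 7, 5, 5, 7, 7, 5, 5, 7, 7, 5, 5, 7, 7])) (.node 214 (.leaf 60 7 [6, 8, 6, 17, 20, 17, 15, 13, 15, 14, 9, 9, 11, 6, 6, 7, 5, 5, 8, 8]) (.node 215 (.leaf 27 12 [6, 6, 6, 8, 6, 6, 6, 8, 6, 6, 6, 8, 6, 6, 6, 8, 6, 6, 6, 8, 6, 6, 6, 8, 6, 6, 6, 8, 6, 6, 6, 8, 6, 6, 6, 8, 6, 6, 6, 8]) (.leaf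 40 8 [21, 18, 19, 16, 16, 10, 11, 7, 5, 8, 5, 8, 6, 8, 6])))))))) (.node 252 (.node 234 (.node 225 (.node 220 (.node 218 (.node 217 (.leaf 35 13 [10, 10, 12, 9, 6, 6, 8, 5, 7, 7, 6, 21, 17, 20, 16, 16, 13]) (.leaf 48 13 [13, 12, 5, 7, 5, 5, 7, 5, 7, 5, 8, 20, 17, 15, 15])) (.node 219 (.leaf 35 9 [20, 16, 16, 13, 10, 10, 12, 9, 6, 6, 8, 5, 7, 7, 6, 21, 17]) (.leaf 12 12 [5, 7, 5, 7, 5, 7, 5, 7, 5, 7, 5, 7, 5, 7, 5, 7, 5, 7, 5, 7, 5, 7, 5, 7]))) (.node 222 (.node 221 (.leaf 15 13 [5, 7, 5, 5, 7, 5, 5, 7, 5, 5, 7, 5, 5, 7, 5, 5, 7, 5, 5, 7, 5, 5, 7, 5, 5, 7, 5, 5, 7, 5]) (.leaf 47 12 [13, 11, 11, 10, 6, 6, 7, 7, 5, 8, 5, 7, 5, 19, 19, 16])) (.node 223 (.leaf 52 11 [14, 10, 11, 9, 8, 5, 7, 6, 7, 6, 6, 8, 6, 16, 16]) (.node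 224 (.leaf 67 13 [16, 16, 10, 11, 11, 5, 7, 6, 6, 7, 7, 6, 7, 5, 8, 21, 16, 14]) (.leaf 33 8 [13, 12, 9, 9, 8, 6, 7, 5, 8, 8, 19, 16]))))) (.node 229 (.node 227 (.node 226 (.leaf 42 5 [8, 5, 8, 21, 19, 18, 15, 14, 16, 14, 9, 9, 11, 10, 10, 6, 6, 8, 8, 5]) (.leaf 74 12 [11, 5, 5, 8, 8, 5, 7, 6, 7, 7, 6, 21, 16])) (.node 228 (.leaf 75 15 [11, 10, 12, 9, 7, 6, 7, 7, 5, 7, 5, 5, 8, 8, 18, 16, 14, 16, 9]) (.leaf 39 15 [9, 9, 11, 10, 8, 8, 5, 5, 8, 5, 5, 8, 21, 19, 15, 13, 13, 16, 16]))) (.node 231 (.node 230 (.leaf 43 13 [14, 9, 11, 9, 9, 12, 8, 8, 6, 7, 7, 5, 8, 6, 6, 21, 18, 15, 15]) (.leaf 56 15 [10, 10, 7, 5, 5, 7, 5, 7, 5, 8, 6, 21, 20, 17, 15, 13, 13])) (.node 232 (.leaf 24 26 [6, 8, 5, 7, 6, 8, 5, 7, 6, 8, 5, 7, 6,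 8, 5, 7, 6, 8, 5, 7, 6, 8, 5, 7, 6, 8, 5, 7]) (.node 233 (.leaf 52 5 [6, 6, 8, 6, 16, 16, 14, 10, 11, 9, 8, 5, 7, 6, 7]) (.leaf 24 17 [7, 6, 8, 5, 7, 6, 8, 5, 7, 6, 8, 5, 7, 6, 8, 5, 7, 6, 8, 5, 7, 6, 8, 5, 7, 6, 8, 5])))))) (.node 243 (.node 238 (.node 236 (.node 235 (.leaf 1 3 [8, 5, 10, 6, 8, 5]) (.leaf 60 16 [14, 9, 9, 11, 6, 6, 7, 5, 5, 8, 8, 6, 8, 6, 17, 20, 17, 15, 13, 15])) (.node 237 (.leaf 17 2 [8, 5, 8, 8, 5, 8, 8, 5, 8, 8, 5, 8, 8, 5, 8, 8, 5, 8, 8, 5, 8, 8, 5, 8, 8, 5, 8]) (.leaf 23 24 [5, 5, 8, 8, 5, 5, 8, 8, 5, 5, 8, 8, 5, 5, 8, 8, 5, 5, 8, 8, 5, 5, 8, 8, 5, 5, 8, 8, 5, 5, 8, 8]))) (.node 240 (.node 239 (.leaf 53 9 [17, 20, 15, 14, 10, 12, 10, 8, 8, 5, 7, 7, 5, 8, 5, 5]) (.leaf 69 0 [7, 7, 5, 7, 7, 5,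 8, 8, 5, 8, 17, 20, 15, 11, 11, 10, 10])) (.node 241 (.leaf 75 3 [7, 5, 7, 5, 5, 8, 8, 18, 16, 14, 16, 9, 11, 10, 12, 9, 7, 6, 7]) (.node 242 (.leaf 71 10 [17, 15, 13, 16, 11, 11, 10, 8, 6, 6, 7, 7, 5, 7, 6, 7, 7]) (.leaf 73 14 [16, 13, 10, 12, 10, 11, 6, 8, 8, 6, 7, 7, 5, 7, 7, 5, 17, 17, 16, 14]))))) (.node 247 (.node 245 (.node 244 (.leaf 56 9 [21, 20, 17, 15, 13, 13, 10, 10, 7, 5, 5, 7, 5, 7, 5, 8, 6]) (.leaf 68 16 [10, 12, 7, 6, 7, 5, 5, 7, 6, 7, 6, 6, 21, 17, 17, 16, 16, 10])) (.node 246 (.leaf 59 11 [17, 17, 15, 14, 16, 9, 11, 10, 11, 11, 5, 8, 5, 8, 5, 5, 7, 7, 6, 8, 21]) (.leaf 72 10 [20, 17, 15, 14, 16, 14, 9, 11, 10, 10, 10, 7, 7, 5, 7, 6, 7, 7, 5, 7, 7]))) (.node 249 (.node 248 (.leaf 62 2 [7, 7, 5, 8, 6,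 7, 6, 6, 21, 20, 17, 16, 16, 5, 7]) (.leaf 35 5 [7, 6, 21, 17, 20, 16, 16, 13, 10, 10, 12, 9, 6, 6, 8, 5, 7])) (.node 250 (.leaf 36 12 [15, 9, 9, 11, 10, 10, 11, 5, 7, 6, 7, 7, 5, 8, 17, 20, 17, 15, 13]) (.node 251 (.leaf 61 14 [16, 10, 10, 12, 10, 6, 6, 7, 6, 7, 5, 7, 7, 6, 6, 21, 20, 17, 16]) (.leaf 62 0 [5, 7, 7, 7, 5, 8, 6, 7, 6, 6, 21, 20, 17, 16, 16]))))))) (.node 270 (.node 261 (.node 256 (.node 254 (.node 253 (.leaf 56 6 [5, 8, 6, 21, 20, 17, 15, 13, 13, 10, 10, 7, 5, 5, 7, 5, 7]) (.leaf 46 13 [16, 9, 11, 10, 11, 9, 7, 6, 8, 5, 5, 8, 8, 8, 6, 17, 20, 17, 16])) (.node 255 (.leaf 40 5 [6, 8, 6, 21, 18, 19, 16, 16, 10, 11, 7, 5, 8, 5, 8]) (.leaf 45 12 [11, 10, 10, 10, 12, 7, 6, 6, 7, 7, 7, 5, 5, 8, 19, 18, 15])))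 (.node 258 (.node 257 (.leaf 70 14 [14, 11, 10, 10, 10, 12, 6, 8, 6, 8, 6, 7, 7, 5, 5, 7, 20, 15, 14, 16]) (.leaf 50 3 [8, 5, 8, 6, 7, 6, 21, 17, 20, 17, 15, 14, 16, 12, 5, 7, 6])) (.node 259 (.leaf 68 13 [16, 16, 10, 10, 12, 7, 6, 7, 5, 5, 7, 6, 7, 6, 6, 21, 17, 17]) (.node 260 (.leaf 77 6 [8, 8, 5, 5, 21, 17, 15, 11, 11, 5, 8, 5, 8, 8, 5]) (.leaf 44 13 [14, 16, 14, 10, 11, 9, 11, 5, 8, 5, 5, 7, 6, 6, 7, 6, 21, 17, 20, 15]))))) (.node 265 (.node 263 (.node 262 (.leaf 13 21 [8, 5, 8, 5, 8, 5, 8, 5, 8, 5, 8, 5, 8, 5, 8, 5, 8, 5, 8, 5, 8, 5, 8, 5, 8, 5, 8, 5, 8, 5, 8, 5, 8, 5, 8, 5]) (.leaf 21 35 [8, 5, 5, 5, 8, 5, 5, 5, 8, 5, 5, 5, 8, 5, 5, 5, 8, 5, 5, 5, 8, 5, 5, 5, 8, 5, 5, 5, 8, 5, 5, 5, 8, 5, 5, 5, 8, 5, 5, 5])) (.node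 264 (.leaf 22 3 [7, 5, 5, 7, 7, 5, 5, 7, 7, 5, 5, 7, 7, 5, 5, 7, 7, 5, 5, 7, 7, 5, 5, 7]) (.leaf 48 5 [5, 7, 5, 8, 20, 17, 15, 15, 13, 12, 5, 7, 5, 5, 7]))) (.node 267 (.node 266 (.leaf 26 13 [6, 6, 7, 6, 6, 6, 7, 6, 6, 6, 7, 6, 6, 6, 7, 6, 6, 6, 7, 6, 6, 6, 7, 6, 6, 6, 7, 6, 6, 6, 7, 6, 6, 6, 7, 6, 6, 6, 7, 6]) (.leaf 42 2 [8, 8, 5, 8, 5, 8, 21, 19, 18, 15, 14, 16, 14, 9, 9, 11, 10, 10, 6, 6])) (.node 268 (.leaf 52 1 [5, 7, 6, 7, 6, 6, 8, 6, 16, 16, 14, 10, 11, 9, 8]) (.node 269 (.leaf 65 2 [7, 7, 7, 6, 6, 7, 6, 6, 21, 17, 20, 17, 15, 13, 13, 9, 11, 9, 9, 6, 6]) (.leaf 68 0 [7, 6, 7, 5, 5, 7, 6, 7, 6, 6, 21, 17, 17, 16, 16, 10, 10, 12])))))) (.node 279 (.node 274 (.node 272 (.node 271 (.leaf 12 10 [5, 7, 5, 7, 5, 7,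 5, 7, 5, 7, 5, 7, 5, 7, 5, 7, 5, 7, 5, 7, 5, 7, 5, 7]) (.leaf 13 32 [5, 8, 5, 8, 5, 8, 5, 8, 5, 8, 5, 8, 5, 8, 5, 8, 5, 8, 5, 8, 5, 8, 5, 8, 5, 8, 5, 8, 5, 8, 5, 8, 5, 8, 5, 8])) (.node 273 (.leaf 17 13 [8, 8, 5, 8, 8, 5, 8, 8, 5, 8, 8, 5, 8, 8, 5, 8, 8, 5, 8, 8, 5, 8, 8, 5, 8, 8, 5]) (.leaf 20 18 [5, 7, 5, 5, 5, 7, 5, 5, 5, 7, 5, 5, 5, 7, 5, 5, 5, 7, 5, 5, 5, 7, 5, 5, 5, 7, 5, 5, 5, 7, 5, 5, 5, 7, 5, 5, 5, 7, 5, 5]))) (.node 276 (.node 275 (.leaf 21 32 [5, 5, 5, 8, 5, 5, 5, 8, 5, 5, 5, 8, 5, 5, 5, 8, 5, 5, 5, 8, 5, 5, 5, 8, 5, 5, 5, 8, 5, 5, 5, 8, 5, 5, 5, 8, 5, 5, 5, 8]) (.leaf 22 21 [5, 7, 7, 5, 5, 7, 7, 5, 5, 7, 7, 5, 5, 7, 7, 5, 5, 7, 7, 5, 5, 7, 7, 5])) (.node 277 (.leaf 74 8 [7, 6, 21, 16, 11, 5, 5, 8, 8, 5, 7,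 6, 7]) (.node 278 (.leaf 18 17 [7, 6, 6, 7, 6, 6, 7, 6, 6, 7, 6, 6, 7, 6, 6, 7, 6, 6, 7, 6, 6, 7, 6, 6, 7, 6, 6, 7, 6, 6]) (.leaf 30 6 [21, 17, 15, 13, 16, 16, 6, 7, 5, 7, 7, 7]))))) (.node 284 (.node 281 (.node 280 (.leaf 44 11 [20, 15, 14, 16, 14, 10, 11, 9, 11, 5, 8, 5, 5, 7, 6, 6, 7, 6, 21, 17]) (.leaf 49 2 [8, 5, 7, 6, 8, 6, 6, 21, 20, 17, 16, 14, 16, 13, 11, 6, 8])) (.node 282 (.leaf 70 8 [5, 7, 20, 15, 14, 16, 14, 11, 10, 10, 10, 12, 6, 8, 6, 8, 6, 7, 7, 5]) (.node 283 (.leaf 67 4 [7, 7, 6, 7, 5, 8, 21, 16, 14, 16, 16, 10, 11, 11, 5, 7, 6, 6]) (.leaf 51 1 [5, 5, 8, 5, 5, 8, 6, 7, 19, 15, 15, 14, 9, 11, 10, 12, 9, 7])))) (.node 286 (.node 285 (.leaf 65 12 [20, 17, 15, 13, 13, 9, 11, 9, 9, 6, 6, 7, 7, 7, 6, 6, 7,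 6, 6, 21, 17]) (.leaf 76 20 [9, 7, 5, 5, 8, 8, 5, 7, 5, 7, 7, 21, 17, 20, 16, 14, 16, 13, 9, 11, 9])) (.node 287 (.leaf 45 0 [7, 6, 6, 7, 7, 7, 5, 5, 8, 19, 18, 15, 11, 10, 10, 10, 12]) (.node 288 (.leaf 55 0 [8, 6, 6, 8, 5, 7, 6, 7, 6, 21, 18, 19, 16, 10, 11, 9, 11, 10]) (.leaf 23 30 [8, 8, 5, 5, 8, 8, 5, 5, 8, 8, 5, 5, 8, 8, 5, 5, 8, 8, 5, 5, 8, 8, 5, 5, 8, 8, 5, 5, 8, 8, 5, 5]))))))))))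

theorem b0 : allR (guardB 6 (blk fc sc rt.get Cfsg.Agent.Lib.Helper3.O73.INV isH)) 3 0 = true := by decide +kernel
theorem c0 : allR (guardB 7 (cblk fc nc cc 1536 224 79228162514264337593543950336 gens)) 3 0 = true := by decide +kernel

theorem chkAll : ∀ j < 6, blk fc sc rt.get Cfsg.Agent.Lib.Helper3.O73.INV isH j = true :=
  guardB_spec (D := 3) b0 (by norm_num)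

theorem clAll : ∀ jb < 7, cblk fc nc cc (256 * 6) 224 79228162514264337593543950336 gens jb = true :=
  guardB_spec (D := 3) c0 (by norm_num)

theorem card_eq : Nat.card (lgrp (vL Cfsg.Agent.Lib.Helper3.O73.ntl Cfsg.Agent.Lib.Helper3.O73.deg) gens) = 224 * Nat.card (lgrp (vL Cfsg.Agent.Lib.Helper3.O73.ntl Cfsg.Agent.Lib.Helper3.O73.deg) hl) :=
  Cfsg.Agent.Lib.Helper3.O73.setup.level gens hl dl BR (by decide +kernel) (by decide +kernel) (by decide +kernel) (by decide +kernel)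
    (by decide +kernel) rt (by decide +kernel) isH (fun l h => of_decide_eq_true h) fc sc nc cc 6 7 224 79228162514264337593543950336
    (by norm_num) (by norm_num) (by decide +kernel) (by decide) chkAll clAll
    1 1 8 (by norm_num [Cfsg.Agent.Lib.Helper3.O73.deg]) (by norm_num [Cfsg.Agent.Lib.Helper3.O73.deg]) (by decide +kernel) (by decide +kernel)

theorem ub {M : Type*} [Group M] (w : ℕ → M) (h0 : w 0 = 1) (hinv : ∀ l, w (invL Cfsg.Agent.Lib.Helper3.O73.INV l) = (w l)⁻¹)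
    (hBR : ∀ r ∈ BR, (r.map w).prod = 1)
    (hdlr : ∀ r ∈ dl.map (fun p => p.1 ++ [p.2]), (r.map w).prod = 1) (N : ℕ) (hN : Bd w hl N) :
    Bd w gens (224 * N) :=
  level_bd w Cfsg.Agent.Lib.Helper3.O73.INV h0 hinv gens hl dl BR (by decide +kernel) hdlr hBR (by decide +kernel) (by decide +kernel)
    rt (by decide +kernel) isH (fun l h => of_decide_eq_true h) fc sc nc cc 6 7 224 79228162514264337593543950336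
    (by norm_num) (by norm_num) (by decide +kernel) (by decide) chkAll clAll N hN

end Cfsg.Agent.Lib.Helper3.O73.L2
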