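import Cfsg.Agent.Lib.Helper3.O73.L3D
import Cfsg.Agent.Lib.Helper3.O73.Net

set_option autoImplicit false
set_option maxRecDepth 100000

namespace Cfsg.Agent.Lib.Helper3.O73.L3

open Cfsg.Agent.Lib.Helper11 Cfsg.Agent.Lib.Helper3

set_option maxHeartbeats 0

noncomputable def fc (i : ℕ) : ℕ := (fc0_0 i)
noncomputable def sc (i : ℕ) : ℕ := (sc0_0 i)
noncomputable def nc (i : ℕ) : ℕ := (nc0_0 i)
noncomputable def cc (i : ℕ) : ℕ := (cc0_0 i)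

def isH (l : ℕ) : Bool := decide (l ∈ [13, 15])
def gens : List ℕ := [9, 11]
def hl : List ℕ := [13, 15]
def dl : List (List ℕ × ℕ) := [([9], 10), ([11], 12), ([11, 9, 9, 11, 9, 12], 14), ([14], 13), ([12, 9, 11, 11, 9, 9, 9], 16), ([16], 15), ([13], 18), ([18], 17), ([16, 13, 15, 15, 15], 20), ([20], 19), ([19, 17, 19], 21)]
def BR : List (List ℕ) := [[], [11, 9, 9, 11, 9, 12, 14], [12, 9, 11, 11, 9, 9, 9, 16], [13, 18], [16, 13, 15, 15, 15, 20], [19, 17, 19, 21], [9, 9, 9, 9, 9, 9, 9, 9, 9], [11, 11, 11, 11], [12, 12, 12, 12], [9, 11, 9, 11, 9, 11, 9, 11, 9, 11, 9, 11], [9, 12, 9, 12, 9, 12, 9, 12, 9, 12, 9, 12], [10, 12, 10, 12, 10, 12, 10, 12, 10, 12, 10, 12], [9, 9, 11, 9, 9, 11, 9, 9, 11, 9, 9, 11, 9, 9, 11, 9, 9, 11], [9, 9, 12, 9, 9, 12, 9, 9, 12, 9, 9, 12, 9, 9, 12, 9, 9, 12], [9, 11, 11, 9, 11, 11, 9,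 11, 11, 9, 11, 11], [9, 12, 12, 9, 12, 12, 9, 12, 12, 9, 12, 12], [10, 10, 11, 10, 10, 11, 10, 10, 11, 10, 10, 11, 10, 10, 11, 10, 10, 11], [10, 11, 11, 10, 11, 11, 10, 11, 11, 10, 11, 11], [10, 12, 12, 10, 12, 12, 10, 12, 12, 10, 12, 12], [9, 9, 9, 11, 9, 9, 9, 11, 9, 9, 9, 11, 9, 9, 9, 11], [9, 9, 9, 12, 9, 9, 9, 12, 9, 9, 9, 12, 9, 9, 9, 12], [9, 9, 11, 11, 9, 9, 11, 11, 9, 9, 11, 11, 9, 9, 11, 11], [9, 9, 12, 12, 9, 9, 12, 12, 9, 9, 12, 12, 9, 9, 12, 12], [9, 11, 9, 12, 9, 11, 9, 12], [9, 11, 10, 11, 9, 11, 10, 11, 9, 11, 10, 11, 9, 11, 10, 11, 9, 11, 10, 11], [9, 11, 10, 12, 9, 11, 10, 12, 9, 11, 10, 12], [9, 11, 11, 11, 9, 11, 11, 11, 9, 11, 11, 11, 9, 11, 11, 11, 9, 11, 11, 11, 9, 11, 11, 11], [9, 12, 9, 12, 9, 12, 9, 12, 9, 12, 9, 12], [9, 12, 10, 11, 9, 12, 10, 11, 9, 12, 10, 11], [9, 12, 12, 12, 9, 12,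 12, 12, 9, 12, 12, 12, 9, 12, 12, 12, 9, 12, 12, 12, 9, 12, 12, 12], [10, 10, 10, 11, 10, 10, 10, 11, 10, 10, 10, 11, 10, 10, 10, 11], [10, 10, 11, 11, 10, 10, 11, 11, 10, 10, 11, 11, 10, 10, 11, 11], [10, 11, 10, 11, 10, 11, 10, 11, 10, 11, 10, 11], [10, 11, 10, 12, 10, 11, 10, 12], [10, 11, 11, 11, 10, 11, 11, 11, 10, 11, 11, 11, 10, 11, 11, 11, 10, 11, 11, 11, 10, 11, 11, 11], [10, 12, 12, 12, 10, 12, 12, 12, 10, 12, 12, 12, 10, 12, 12, 12, 10, 12, 12, 12, 10, 12, 12, 12], [11, 10, 11, 9, 9, 11, 21, 20, 15], [11, 11, 9, 12, 9, 12, 21, 18, 19, 15, 13, 13, 16, 16], [12, 10, 11, 11, 10, 12, 18, 19, 15, 13, 13, 16], [12, 9, 12, 9, 12, 12, 9, 21, 18, 15, 15, 14, 16]]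
def rt : RT := (.node 36 (.node 18 (.node 9 (.node 4 (.node 2 (.node 1 (.leaf 0 0 []) (.leaf 33 6 [10, 12, 10, 11, 10, 12, 10, 11])) (.node 3 (.leaf 2 3 [11, 9, 9, 9, 16, 12, 9, 11]) (.leaf 1 3 [11, 9, 12, 14, 11, 9, 9]))) (.node 6 (.node 5 (.leaf 7 2 [11, 11, 11, 11]) (.leaf 33 5 [11, 10, 12, 10, 11, 10, 12, 10])) (.node 7 (.leaf 23 4 [9, 11, 9, 12, 9, 11, 9, 12]) (.node 8 (.leaf 3 1 [18, 13]) (.leaf 4 5 [20, 16, 13, 15, 15, 15]))))) (.node 13 (.node 11 (.node 10 (.leaf 5 3 [21, 19, 17, 19]) (.leaf 36 3 [9, 9, 11, 21, 20, 15, 11, 10, 11])) (.node 12 (.leaf 37 2 [9, 12, 9, 12, 21, 18, 19, 15, 13, 13, 16, 16, 11, 11]) (.leaf 6 6 [9, 9, 9, 9, 9, 9, 9, 9, 9]))) (.node 15 (.node 14 (.leaf 19 10 [9, 11, 9, 9, 9, 11, 9, 9, 9, 11, 9, 9, 9, 11, 9, 9]) (.leaf 28 3 [11, 9, 12, 10, 11, 9, 12, 10, 11, 9, 12, 10])) (.node 16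 (.leaf 23 7 [12, 9, 11, 9, 12, 9, 11, 9]) (.node 17 (.leaf 38 2 [11, 11, 10, 12, 18, 19, 15, 13, 13, 16, 12, 10]) (.leaf 7 3 [11, 11, 11, 11])))))) (.node 27 (.node 22 (.node 20 (.node 19 (.leaf 33 2 [10, 12, 10, 11, 10, 12, 10, 11]) (.leaf 10 11 [12, 9, 12, 9, 12, 9, 12, 9, 12, 9, 12, 9])) (.node 21 (.leaf 23 5 [11, 9, 12, 9, 11, 9, 12, 9]) (.leaf 26 10 [11, 11, 9, 11, 11, 11, 9, 11, 11, 11, 9, 11, 11, 11, 9, 11, 11, 11, 9, 11, 11, 11, 9, 11]))) (.node 24 (.node 23 (.leaf 33 7 [12, 10, 11, 10, 12, 10, 11, 10]) (.leaf 25 5 [11, 10, 12, 9, 11, 10, 12, 9, 11, 10, 12, 9])) (.node 25 (.leaf 28 5 [12, 10, 11, 9, 12, 10, 11, 9, 12, 10, 11, 9]) (.node 26 (.leaf 17 3 [10, 11, 11, 10, 11, 11, 10, 11, 11, 10, 11, 11]) (.leaf 31 5 [10, 11, 11, 10, 10, 11, 11, 10, 10, 11, 11, 10, 10, 11, 11, 10]))))) (.node 31 (.node 29 (.node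 28 (.leaf 17 6 [10, 11, 11, 10, 11, 11, 10, 11, 11, 10, 11, 11]) (.leaf 8 2 [12, 12, 12, 12])) (.node 30 (.leaf 39 3 [9, 12, 12, 9, 21, 18, 15, 15, 14, 16, 12, 9, 12]) (.leaf 14 9 [9, 11, 11, 9, 11, 11, 9, 11, 11, 9, 11, 11]))) (.node 33 (.node 32 (.leaf 23 3 [12, 9, 11, 9, 12, 9, 11, 9]) (.leaf 6 3 [9, 9, 9, 9, 9, 9, 9, 9, 9])) (.node 34 (.leaf 13 12 [9, 9, 12, 9, 9, 12, 9, 9, 12, 9, 9, 12, 9, 9, 12, 9, 9, 12]) (.node 35 (.leaf 28 7 [11, 9, 12, 10, 11, 9, 12, 10, 11, 9, 12, 10]) (.leaf 10 8 [9, 12, 9, 12, 9, 12, 9, 12, 9, 12, 9, 12]))))))) (.node 54 (.node 45 (.node 40 (.node 38 (.node 37 (.leaf 12 16 [9, 11, 9, 9, 11, 9, 9, 11, 9, 9, 11, 9, 9, 11, 9, 9, 11, 9]) (.leaf 25 11 [12, 9, 11, 10, 12, 9, 11, 10, 12, 9, 11, 10])) (.node 39 (.leaf 9 1 [11, 9, 11, 9, 11, 9, 11, 9, 11, 9, 11, 9]) (.leaf 12 2 [11, 9, 9, 11,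 9, 9, 11, 9, 9, 11, 9, 9, 11, 9, 9, 11, 9, 9]))) (.node 42 (.node 41 (.leaf 15 3 [9, 12, 12, 9, 12, 12, 9, 12, 12, 9, 12, 12]) (.leaf 22 12 [9, 9, 12, 12, 9, 9, 12, 12, 9, 9, 12, 12, 9, 9, 12, 12])) (.node 43 (.leaf 18 10 [12, 12, 10, 12, 12, 10, 12, 12, 10, 12, 12, 10]) (.node 44 (.leaf 34 11 [11, 10, 11, 11, 11, 10, 11, 11, 11, 10, 11, 11, 11, 10, 11, 11, 11, 10, 11, 11, 11, 10, 11, 11]) (.leaf 35 10 [12, 12, 10, 12, 12, 12, 10, 12, 12, 12, 10, 12, 12, 12, 10, 12, 12, 12, 10, 12, 12, 12, 10, 12]))))) (.node 49 (.node 47 (.node 46 (.leaf 14 6 [9, 11, 11, 9, 11, 11, 9, 11, 11, 9, 11, 11]) (.leaf 21 14 [11, 11, 9, 9, 11, 11, 9, 9, 11, 11, 9, 9, 11, 11, 9, 9])) (.node 48 (.leaf 26 20 [9, 11, 11, 11, 9, 11, 11, 11, 9, 11, 11, 11, 9, 11, 11, 11, 9, 11, 11, 11, 9, 11, 11, 11]) (.leaf 32 0 [10, 11, 10, 11, 10, 11, 10,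 11, 10, 11, 10, 11]))) (.node 51 (.node 50 (.leaf 34 0 [10, 11, 11, 11, 10, 11, 11, 11, 10, 11, 11, 11, 10, 11, 11, 11, 10, 11, 11, 11, 10, 11, 11, 11]) (.leaf 15 7 [12, 12, 9, 12, 12, 9, 12, 12, 9, 12, 12, 9])) (.node 52 (.leaf 20 6 [9, 12, 9, 9, 9, 12, 9, 9, 9, 12, 9, 9, 9, 12, 9, 9]) (.node 53 (.leaf 28 10 [10, 11, 9, 12, 10, 11, 9, 12, 10, 11, 9, 12]) (.leaf 7 1 [11, 11, 11, 11])))))) (.node 63 (.node 58 (.node 56 (.node 55 (.leaf 14 8 [11, 9, 11, 11, 9, 11, 11, 9, 11, 11, 9, 11]) (.leaf 16 14 [11, 10, 10, 11, 10, 10, 11, 10, 10, 11, 10, 10, 11, 10, 10, 11, 10, 10])) (.node 57 (.leaf 17 11 [11, 10, 11, 11, 10, 11, 11, 10, 11, 11, 10, 11]) (.leaf 21 8 [9, 9, 11, 11, 9, 9, 11, 11, 9, 9, 11, 11, 9, 9, 11, 11]))) (.node 60 (.node 59 (.leaf 26 8 [9, 11, 11, 11, 9, 11, 11, 11, 9, 11, 11, 11, 9, 11, 11, 11, 9, 11,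 11, 11, 9, 11, 11, 11]) (.leaf 32 8 [10, 11, 10, 11, 10, 11, 10, 11, 10, 11, 10, 11])) (.node 61 (.leaf 34 17 [11, 11, 11, 10, 11, 11, 11, 10, 11, 11, 11, 10, 11, 11, 11, 10, 11, 11, 11, 10, 11, 11, 11, 10]) (.node 62 (.leaf 11 6 [10, 12, 10, 12, 10, 12, 10, 12, 10, 12, 10, 12]) (.leaf 18 9 [10, 12, 12, 10, 12, 12, 10, 12, 12, 10, 12, 12]))))) (.node 68 (.node 65 (.node 64 (.leaf 19 1 [9, 9, 11, 9, 9, 9, 11, 9, 9, 9, 11, 9, 9, 9, 11, 9]) (.leaf 30 14 [10, 11, 10, 10, 10, 11, 10, 10, 10, 11, 10, 10, 10, 11, 10, 10])) (.node 66 (.leaf 20 11 [12, 9, 9, 9, 12, 9, 9, 9, 12, 9, 9, 9, 12, 9, 9, 9]) (.node 67 (.leaf 13 14 [12, 9, 9, 12, 9, 9, 12, 9, 9, 12, 9, 9, 12, 9, 9, 12, 9, 9]) (.leaf 20 10 [9, 12, 9, 9, 9, 12, 9, 9, 9, 12, 9, 9, 9, 12, 9, 9])))) (.node 70 (.node 69 (.leaf 20 2 [9, 12, 9, 9, 9, 12, 9, 9, 9, 12, 9,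 9, 9, 12, 9, 9]) (.leaf 27 11 [12, 9, 12, 9, 12, 9, 12, 9, 12, 9, 12, 9])) (.node 71 (.leaf 29 18 [12, 12, 9, 12, 12, 12, 9, 12, 12, 12, 9, 12, 12, 12, 9, 12, 12, 12, 9, 12, 12, 12, 9, 12]) (.node 72 (.leaf 24 15 [11, 9, 11, 10, 11, 9, 11, 10, 11, 9, 11, 10, 11, 9, 11, 10, 11, 9, 11, 10]) (.leaf 24 0 [9, 11, 10, 11, 9, 11, 10, 11, 9, 11, 10, 11, 9, 11, 10, 11, 9, 11, 10, 11]))))))))

theorem b0 : allR (guardB 2 (blk fc sc rt.get Cfsg.Agent.Lib.Helper3.O73.INV isH)) 1 0 = true := by decide +kernel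
theorem c0 : allR (guardB 3 (cblk fc nc cc 512 81 79228162514264337593543950336 gens)) 2 0 = true := by decide +kernel

theorem chkAll : ∀ j < 2, blk fc sc rt.get Cfsg.Agent.Lib.Helper3.O73.INV isH j = true :=
  guardB_spec (D := 1) b0 (by norm_num)

theorem clAll : ∀ jb < 3, cblk fc nc cc (256 * 2) 81 79228162514264337593543950336 gens jb = true :=
  guardB_spec (D := 2) c0 (by norm_num)

theorem card_eq : Nat.card (lgrp (vL Cfsg.Agent.Lib.Helper3.O73.ntl Cfsg.Agent.Lib.Helper3.O73.deg) gens) = 81 * Nat.card (lgrp (vL Cfsg.Agent.Lib.Helper3.O73.ntl Cfsg.Agent.Lib.Helper3.O73.deg) hl) :=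
  Cfsg.Agent.Lib.Helper3.O73.setup.level gens hl dl BR (by decide +kernel) (by decide +kernel) (by decide +kernel) (by decide +kernel)
    (by decide +kernel) rt (by decide +kernel) isH (fun l h => of_decide_eq_true h) fc sc nc cc 2 3 81 79228162514264337593543950336
    (by norm_num) (by norm_num) (by decide +kernel) (by decide) chkAll clAll
    2 2 7 (by norm_num [Cfsg.Agent.Lib.Helper3.O73.deg]) (by norm_num [Cfsg.Agent.Lib.Helper3.O73.deg]) (by decide +kernel) (by decide +kernel)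

theorem ub {M : Type*} [Group M] (w : ℕ → M) (h0 : w 0 = 1) (hinv : ∀ l, w (invL Cfsg.Agent.Lib.Helper3.O73.INV l) = (w l)⁻¹)
    (hBR : ∀ r ∈ BR, (r.map w).prod = 1)
    (hdlr : ∀ r ∈ dl.map (fun p => p.1 ++ [p.2]), (r.map w).prod = 1) (N : ℕ) (hN : Bd w hl N) :
    Bd w gens (81 * N) :=
  level_bd w Cfsg.Agent.Lib.Helper3.O73.INV h0 hinv gens hl dl BR (by decide +kernel) hdlr hBR (by decide +kernel) (by decide +kernel)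
    rt (by decide +kernel) isH (fun l h => of_decide_eq_true h) fc sc nc cc 2 3 81 79228162514264337593543950336
    (by norm_num) (by norm_num) (by decide +kernel) (by decide) chkAll clAll N hN

end Cfsg.Agent.Lib.Helper3.O73.L3
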