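import Cfsg.Agent.Lib.Helper3.O73.L4D
import Cfsg.Agent.Lib.Helper3.O73.Net

set_option autoImplicit false
set_option maxRecDepth 100000

namespace Cfsg.Agent.Lib.Helper3.O73.L4

open Cfsg.Agent.Lib.Helper11 Cfsg.Agent.Lib.Helper3

set_option maxHeartbeats 0

noncomputable def fc (i : ℕ) : ℕ := (fc0_0 i)
noncomputable def sc (i : ℕ) : ℕ := (sc0_0 i)
noncomputable def nc (i : ℕ) : ℕ := (nc0_0 i)
noncomputable def cc (i : ℕ) : ℕ := (cc0_0 i)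

def isH (l : ℕ) : Bool := decide (l ∈ [17, 19])
def gens : List ℕ := [13, 15]
def hl : List ℕ := [17, 19]
def dl : List (List ℕ × ℕ) := [([13], 14), ([15], 16), ([13], 18), ([18], 17), ([16, 13, 15, 15, 15], 20), ([20], 19), ([19, 17, 19], 21)]
def BR : List (List ℕ) := [[], [13, 18], [16, 13, 15, 15, 15, 20], [19, 17, 19, 21], [13, 13, 13, 13], [14, 14, 14, 14], [15, 15, 15, 15, 15, 15], [16, 16, 16, 16, 16, 16], [13, 15, 13, 15, 13, 15, 13, 15], [13, 16, 13, 16, 13, 16, 13, 16, 13, 16], [14, 15, 14, 15, 14, 15, 14, 15, 14, 15], [13, 15, 15, 13, 15, 15, 13, 15, 15, 13, 15, 15], [13, 16, 16, 13, 16, 16, 13, 16, 16, 13, 16, 16, 13, 16, 16, 13, 16, 16], [14, 16, 16, 14, 16, 16, 14, 16, 16, 14, 16, 16], [13, 13, 13, 16, 13, 13, 13, 16, 13, 13, 13, 16, 13, 13, 13, 16], [13, 13, 16, 16, 13, 13, 16, 16, 13, 13, 16, 16, 13, 13, 16, 16, 13, 13, 16, 16], [13, 15, 13, 16, 13, 15,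 13, 16, 13, 15, 13, 16, 13, 15, 13, 16], [14, 14, 14, 15, 14, 14, 14, 15, 14, 14, 14, 15, 14, 14, 14, 15], [14, 14, 14, 16, 14, 14, 14, 16, 14, 14, 14, 16, 14, 14, 14, 16, 14, 14, 14, 16], [14, 14, 15, 15, 14, 14, 15, 15, 14, 14, 15, 15, 14, 14, 15, 15, 14, 14, 15, 15], [14, 14, 16, 16, 14, 14, 16, 16, 14, 14, 16, 16, 14, 14, 16, 16, 14, 14, 16, 16], [14, 15, 14, 16, 14, 15, 14, 16, 14, 15, 14, 16, 14, 15, 14, 16], [14, 15, 15, 15, 14, 15, 15, 15, 14, 15, 15, 15, 14, 15, 15, 15, 14, 15, 15, 15], [16, 13, 13, 15, 14, 16, 21, 18], [15, 13, 15, 15, 14, 15, 15, 21, 17, 17]]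
def rt : RT := (.node 16 (.node 8 (.node 4 (.node 2 (.node 1 (.leaf 0 0 []) (.leaf 2 2 [15, 15, 15, 20, 16, 13])) (.node 3 (.leaf 7 3 [16, 16, 16, 16, 16, 16]) (.leaf 4 2 [13, 13, 13, 13]))) (.node 6 (.node 5 (.leaf 1 1 [18, 13]) (.leaf 3 3 [21, 19, 17, 19])) (.node 7 (.leaf 1 0 [13, 18]) (.leaf 8 4 [13, 15, 13, 15, 13, 15, 13, 15])))) (.node 12 (.node 10 (.node 9 (.leaf 23 2 [13, 15, 14, 16, 21, 18, 16, 13]) (.leaf 4 1 [13, 13, 13, 13])) (.node 11 (.leaf 23 6 [21, 18, 16, 13, 13, 15, 14, 16]) (.leaf 23 3 [15, 14, 16, 21, 18, 16, 13, 13]))) (.node 14 (.node 13 (.leaf 24 3 [15, 14, 15, 15, 21, 17, 17, 15, 13, 15]) (.leaf 24 2 [15, 15, 14, 15, 15, 21, 17, 17, 15, 13])) (.node 15 (.leaf 6 1 [15, 15, 15, 15, 15, 15]) (.leaf 21 10 [14, 16, 14, 15, 14, 16, 14, 15, 14, 16, 14, 15, 14, 16, 14, 15]))))) (.node 24 (.node 20 (.node 18 (.node 17 (.leaf 9 4 [13, 16, 13, 16, 13, 16, 13,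 16, 13, 16]) (.leaf 11 5 [15, 13, 15, 15, 13, 15, 15, 13, 15, 15, 13, 15])) (.node 19 (.leaf 10 0 [14, 15, 14, 15, 14, 15, 14, 15, 14, 15]) (.leaf 21 15 [16, 14, 15, 14, 16, 14, 15, 14, 16, 14, 15, 14, 16, 14, 15, 14]))) (.node 22 (.node 21 (.leaf 22 17 [15, 15, 15, 14, 15, 15, 15, 14, 15, 15, 15, 14, 15, 15, 15, 14, 15, 15, 15, 14]) (.leaf 5 3 [14, 14, 14, 14])) (.node 23 (.leaf 18 6 [14, 16, 14, 14, 14, 16, 14, 14, 14, 16, 14, 14, 14, 16, 14, 14, 14, 16, 14, 14]) (.leaf 19 9 [14, 15, 15, 14, 14, 15, 15, 14, 14, 15, 15, 14, 14, 15, 15, 14, 14, 15, 15, 14])))) (.node 28 (.node 26 (.node 25 (.leaf 14 4 [13, 13, 13, 16, 13, 13, 13, 16, 13, 13, 13, 16, 13, 13, 13, 16]) (.leaf 8 7 [15, 13, 15, 13, 15, 13, 15, 13])) (.node 27 (.leaf 12 7 [16, 16, 13, 16, 16, 13, 16, 16, 13, 16, 16, 13, 16, 16, 13, 16, 16, 13]) (.leaf 15 16 [13, 13, 16, 16, 13, 13, 16, 16, 13, 13, 16, 16, 13, 13,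 16, 16, 13, 13, 16, 16]))) (.node 30 (.node 29 (.leaf 16 12 [13, 15, 13, 16, 13, 15, 13, 16, 13, 15, 13, 16, 13, 15, 13, 16]) (.leaf 13 7 [16, 16, 14, 16, 16, 14, 16, 16, 14, 16, 16, 14])) (.node 31 (.leaf 17 5 [14, 14, 15, 14, 14, 14, 15, 14, 14, 14, 15, 14, 14, 14, 15, 14]) (.node 32 (.leaf 18 7 [16, 14, 14, 14, 16, 14, 14, 14, 16, 14, 14, 14, 16, 14, 14, 14, 16, 14, 14, 14]) (.leaf 20 18 [16, 16, 14, 14, 16, 16, 14, 14, 16, 16, 14, 14, 16, 16, 14, 14, 16, 16, 14, 14])))))))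

theorem b0 : allR (guardB 1 (blk fc sc rt.get Cfsg.Agent.Lib.Helper3.O73.INV isH)) 1 0 = true := by decide +kernel
theorem c0 : allR (guardB 1 (cblk fc nc cc 256 30 79228162514264337593543950336 gens)) 1 0 = true := by decide +kernel

theorem chkAll : ∀ j < 1, blk fc sc rt.get Cfsg.Agent.Lib.Helper3.O73.INV isH j = true :=
  guardB_spec (D := 1) b0 (by norm_num)

theorem clAll : ∀ jb < 1, cblk fc nc cc (256 * 1) 30 79228162514264337593543950336 gens jb = true :=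
  guardB_spec (D := 1) c0 (by norm_num)

theorem card_eq : Nat.card (lgrp (vL Cfsg.Agent.Lib.Helper3.O73.ntl Cfsg.Agent.Lib.Helper3.O73.deg) gens) = 30 * Nat.card (lgrp (vL Cfsg.Agent.Lib.Helper3.O73.ntl Cfsg.Agent.Lib.Helper3.O73.deg) hl) :=
  Cfsg.Agent.Lib.Helper3.O73.setup.level gens hl dl BR (by decide +kernel) (by decide +kernel) (by decide +kernel) (by decide +kernel)
    (by decide +kernel) rt (by decide +kernel) isH (fun l h => of_decide_eq_true h) fc sc nc cc 1 1 30 79228162514264337593543950336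
    (by norm_num) (by norm_num) (by decide +kernel) (by decide) chkAll clAll
    83 83 5 (by norm_num [Cfsg.Agent.Lib.Helper3.O73.deg]) (by norm_num [Cfsg.Agent.Lib.Helper3.O73.deg]) (by decide +kernel) (by decide +kernel)

theorem ub {M : Type*} [Group M] (w : ℕ → M) (h0 : w 0 = 1) (hinv : ∀ l, w (invL Cfsg.Agent.Lib.Helper3.O73.INV l) = (w l)⁻¹)
    (hBR : ∀ r ∈ BR, (r.map w).prod = 1)
    (hdlr : ∀ r ∈ dl.map (fun p => p.1 ++ [p.2]), (r.map w).prod = 1) (N : ℕ) (hN : Bd w hl N) :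
    Bd w gens (30 * N) :=
  level_bd w Cfsg.Agent.Lib.Helper3.O73.INV h0 hinv gens hl dl BR (by decide +kernel) hdlr hBR (by decide +kernel) (by decide +kernel)
    rt (by decide +kernel) isH (fun l h => of_decide_eq_true h) fc sc nc cc 1 1 30 79228162514264337593543950336
    (by norm_num) (by norm_num) (by decide +kernel) (by decide) chkAll clAll N hN

end Cfsg.Agent.Lib.Helper3.O73.L4
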