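import Mathlib

set_option autoImplicit false
set_option maxRecDepth 100000

namespace Cfsg.Agent.Lib.Helper3.O73.L5

noncomputable def fc0_0 (i : ℕ) : ℕ := (nat_lit 0x70000d40000060000f30000050001140000080000b30000070001320000090000f100000800015100000a0001120000090000d200000600013100000a0000b400000500015300000100005400000200003300000900009400000400013300000300009200000400007100000b00015400000a00017300000b0000f200000700017100000b0001130000080001740000050000520000020000b100000000001500000000001500000600017200000b0000d100000400015200000a0000910000030001340000090000730000030001110000080000720000020000f40000070000530000010000d30000060000340000010000b2000005000031000000000093000004000014000000000074000003000013000000000051000002000012000000000032000001000011)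
noncomputable def sc0_0 (i : ℕ) : ℕ := (nat_lit 0x1300001400002100002b00002c00000b00002600000900001d00000d000006000b000d00000700001b00000d00002900002600000d00001e0007000c00000f00001000000000001900000b000027000028000013000023000020000003000b000b00001b0000250000280000200000030005000a00001700002300002400000300001c0005000900001300000500002100002200000d0005000800002300001c00000300001f0000200005000700001100001d00001a0003000600001b0000090000180003000500000000001100001b00001600000a0005000400000700001100001b00001800000e0005000300000500000f00001900001400000a0005000200000f000017000014000300010000fffe0000ffff0000ffff0000ffff0000ffff0000ffff0000ffff0000ffff0000ffff0000ffff0000ffff0000ffff)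
noncomputable def nc0_0 (i : ℕ) : ℕ := (nat_lit 0xb00000a000009000008000007000006000005000004000003000002000001000000)
noncomputable def cc0_0 (i : ℕ) : ℕ := (nat_lit 0x800001b00000600001400000b00001e00000400001200000300001000000700002c00000500002e00000a00002b00000200000c00000b00001c00000700003000000900002800000a00002600000100000800000900002200000300002000000000000400000800000f00000100002400000500001800000600000b000000000000000004000007000002000003)

end Cfsg.Agent.Lib.Helper3.O73.L5
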